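import Cfsg.Agent.H864.SRN.Pair
import Cfsg.Agent.H160.QSemi
import Cfsg.Agent.LieClassical.OrthFinite
import Cfsg.Agent.LieClassical.OrthForms

/-!
# TEAM SR, orthogonal groups, `q = 3 mod 4`: the rows (task 3851, SR-OODD_N)

* `nrel_odd`  : `POmega F (quadFormOdd m F)` has a non-real element (`|F| = 3 mod 4`, `3 ≤ m`, `m ≠ 4`);
* `nrel_plus` : `POmega F (quadFormPlus (2 * n) F)` has a non-real element (`|F| = 3 mod 4`, `3 ≤ n`).
-/

set_option autoImplicit false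
set_option linter.unusedSectionVars false

namespace Cfsg.Agent.H864.SRN

open QuadraticMap Module
open Cfsg.Agent.LieClassical.OrthCore Cfsg.Agent.H160.QSpin Cfsg.Agent.H160.QDisc Cfsg.Agent.H160.QSplit
open Cfsg.Agent.LieClassical.OrthForms Cfsg.Agent.LieClassical.OrthFinite Cfsg.Agent.LieClassical.OrthTrans
open Cfsg.Agent.H959

universe u v w

section

variable {F : Type u} [Field F] [Fintype F] [DecidableEq F]

/-- a space with a skew nilpotent map and an isometry negating it -/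
structure Sp {V : Type v} [AddCommGroup V] [Module F V] [FiniteDimensional F V] [Finite V] (e : ℕ) (d : ℤ)
    (S : Set ℕ) (n : ℕ) (s δ : ℤ) (Q : QuadraticForm F V) (t : Module.End F V) (k : V ≃ₗ[F] V) : Prop where
  adm : Adm d S Q t
  dim : finrank F V = n
  mem : k ∈ O Q
  anti : ∀ x, k (t x) = - t (k x)
  hpsi : psi e Q ⟨k, mem⟩ = s
  hdc : dc Q = δ

theorem dc_Jf (h2 : (2 : F) ≠ 0) {n : ℕ} (hn : Even n) (c : F) : dc (Jf n c) = quadraticChar F c ^ (n + 1) := by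
  have hpol : ∀ i j : Fin (n + 1), polar (Jf n c) ((Pi.basisFun F (Fin (n + 1))) i) ((Pi.basisFun F (Fin (n + 1))) j) =
      if j = i.rev then c * (-1) ^ (i : ℕ) else 0 := by
    intro i j
    rw [Pi.basisFun_apply, Pi.basisFun_apply, polar_Jf h2 hn, altForm_single]
    split_ifs with h
    · rw [h, Pi.single_eq_same, mul_one]
    · rw [Pi.single_eq_of_ne (fun h' => h h'.symm), mul_zero, mul_zero]
  rw [dc_anti (Pi.basisFun F (Fin (n + 1)))]
  · have h1 : ∀ i : Fin (n + 1), (-1 : F) ^ (i : ℕ) * polar (Jf n c) ((Pi.basisFun F (Fin (n + 1))) i)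
        ((Pi.basisFun F (Fin (n + 1))) i.rev) = c := by
      intro i
      rw [hpol, if_pos rfl]
      linear_combination c * neg_pow_mul_self (F := F) (i : ℕ)
    simp only [h1, Finset.prod_const, Finset.card_univ, Fintype.card_fin, map_pow]
  · intro i j hij
    rw [hpol, if_neg]
    rintro rfl
    rw [Fin.val_rev] at hij
    omega

variable {e : ℕ} {c : F}

theorem Sp.block (h2 : (2 : F) ≠ 0) (hm1 : quadraticChar F (-1) = -1) (hc : c ≠ 0)
    (he : (-1) ^ e = - quadraticChar F 2 * quadraticChar F c) (m : ℕ) :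
    Sp e (quadraticChar F c) {2 * m} (2 * m + 1) (sg m) (quadraticChar F c) (Jf (2 * m) c) (shift (2 * m))
      (inv (2 * m)) := by
  have hev : Even (2 * m) := even_two_mul m
  refine ⟨adm_block h2 hev hc, ?_, inv_mem hev c, inv_shift _, psi_inv h2 hm1 hc he m _, ?_⟩
  · rw [finrank_fintype_fun_eq_card, Fintype.card_fin]
  · rw [dc_Jf h2 hev, pow_succ, pow_mul, quadraticChar_sq_one hc, one_pow, one_mul]

theorem Sp.prod {V : Type v} {W : Type w} [AddCommGroup V] [Module F V] [FiniteDimensional F V] [Finite V]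
    [AddCommGroup W] [Module F W] [FiniteDimensional F W] [Finite W] (h2 : (2 : F) ≠ 0) {d : ℤ}
    {S₁ S₂ : Set ℕ} {n₁ n₂ : ℕ} {s₁ s₂ δ₁ δ₂ : ℤ} {Q₁ : QuadraticForm F V} {Q₂ : QuadraticForm F W}
    {t₁ : Module.End F V} {t₂ : Module.End F W} {k₁ : V ≃ₗ[F] V} {k₂ : W ≃ₗ[F] W}
    (h₁ : Sp e d S₁ n₁ s₁ δ₁ Q₁ t₁ k₁) (h₂ : Sp e d S₂ n₂ s₂ δ₂ Q₂ t₂ k₂) (hS : ∀ n ∈ S₁, n ∉ S₂) :
    Sp e d (S₁ ∪ S₂) (n₁ + n₂) (s₁ * s₂) (δ₁ * δ₂) (Q₁.prod Q₂) (LinearMap.prodMap t₁ t₂) (pr k₁ k₂) := by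
  refine ⟨adm_prod h₁.adm h₂.adm hS, ?_, pr_mem_O h₁.mem h₂.mem, ?_, ?_, ?_⟩
  · rw [Module.finrank_prod, h₁.dim, h₂.dim]
  · rintro ⟨x, y⟩
    exact Prod.ext (h₁.anti x) (h₂.anti y)
  · rw [psi_pr e h2 h₁.adm.nd h₂.adm.nd h₁.mem h₂.mem, h₁.hpsi, h₂.hpsi]
  · rw [dc_prod, h₁.hdc, h₂.hdc]

theorem Sp.zero (e : ℕ) (d : ℤ) : Sp e d ∅ 0 1 1 (0 : QuadraticForm F (Fin 0 → F)) 0 1 := by
  refine ⟨adm_zero d _, ?_, (O _).one_mem, ?_, map_one (psi e (0 : QuadraticForm F (Fin 0 → F))), ?_⟩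
  · rw [finrank_fintype_fun_eq_card, Fintype.card_fin]
  · intro x
    exact Subsingleton.elim _ _
  · unfold dc
    rw [gdet_of_zero _ (by rw [finrank_fintype_fun_eq_card, Fintype.card_fin]), map_one]

theorem nr_of_sp {V : Type v} {W : Type w} [AddCommGroup V] [Module F V] [FiniteDimensional F V] [Finite V]
    [AddCommGroup W] [Module F W] [FiniteDimensional F W] [Finite W] (h2 : (2 : F) ≠ 0)
    (hm1 : quadraticChar F (-1) = -1) {d : ℤ}
    (he : (-1) ^ e = - quadraticChar F 2 * d) (hd : d = 1 ∨ d = -1)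
    {S₁ S₂ : Set ℕ} {n₁ n₂ : ℕ} {s₁ s₂ δ₁ δ₂ : ℤ} {Q₁ : QuadraticForm F V} {Q₂ : QuadraticForm F W}
    {t₁ : Module.End F V} {t₂ : Module.End F W} {k₁ : V ≃ₗ[F] V} {k₂ : W ≃ₗ[F] W}
    (h₁ : Sp e d S₁ n₁ s₁ δ₁ Q₁ t₁ k₁) (h₂ : Sp e d S₂ n₂ s₂ δ₂ Q₂ t₂ k₂) (hs : s₁ * s₂ = -1) (hne : n₁ ≠ n₂)
    (hev : Even n₂) (hδ : δ₂ = 1) {ι : Type} [Fintype ι] [DecidableEq ι] {Q : QuadraticForm F (ι → F)}
    (hQ : Nondeg Q) (hdim : Fintype.card ι = n₁ + n₂) (hdc : dc Q = δ₁) : NR Q := by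
  have h3 : NR (Q₁.prod Q₂) := nr_pair h2 hm1 he hd h₁.adm h₂.adm (by rw [h₁.dim, h₂.dim]; exact hne)
    (by rw [h₂.dim]; exact hev) (by rw [h₂.hdc, hδ]) h₁.mem h₂.mem h₁.anti h₂.anti (by rw [h₁.hpsi, h₂.hpsi, hs])
  obtain ⟨f, hf⟩ := exists_iso h2 (nondeg_prod h₁.adm.nd h₂.adm.nd) hQ
    (by rw [Module.finrank_prod, h₁.dim, h₂.dim, finrank_fintype_fun_eq_card, hdim])
    (by rw [dc_prod, h₁.hdc, h₂.hdc, hδ, mul_one, hdc])
  exact h3.iso hf

theorem exists_e (h2 : (2 : F) ≠ 0) {c : F} (hc : c ≠ 0) :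
    ∃ e : ℕ, (-1 : ℤ) ^ e = - quadraticChar F 2 * quadraticChar F c := by
  have h1 : - quadraticChar F 2 * quadraticChar F c = 1 ∨ - quadraticChar F 2 * quadraticChar F c = -1 := by
    rcases quadraticChar_dichotomy h2 with h | h <;> rcases quadraticChar_dichotomy hc with h' | h' <;>
      rw [h, h'] <;> simp
  rcases h1 with h1 | h1
  · exact ⟨0, by rw [h1, pow_zero]⟩
  · exact ⟨1, by rw [h1, pow_one]⟩

theorem two_ne (h : Fintype.card F % 4 = 3) : (2 : F) ≠ 0 := by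
  have h1 : ringChar F ≠ 2 := by
    intro h3
    have := FiniteField.even_card_of_char_two h3
    omega
  exact Ring.two_ne_zero h1

theorem chi_neg_one (h : Fintype.card F % 4 = 3) : quadraticChar F (-1) = -1 := by
  have h1 : ringChar F ≠ 2 := by
    intro h3
    have := FiniteField.even_card_of_char_two h3
    omega
  rw [quadraticChar_neg_one h1, ZMod.χ₄_nat_three_mod_four h]

/-- odd dimension -/
theorem nr_odd (hF : Fintype.card F % 4 = 3) {m : ℕ} (hm : 3 ≤ m) (hm4 : m ≠ 4) {ι : Type} [Fintype ι]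
    [DecidableEq ι] {Q : QuadraticForm F (ι → F)} (hQ : Nondeg Q) (hdim : Fintype.card ι = 2 * m + 1) : NR Q := by
  have h2 := two_ne hF
  have hm1 := chi_neg_one hF
  obtain ⟨c, hc, hcd⟩ := exists_qc (F := F) h2 (dc_cases hQ)
  obtain ⟨e, he⟩ := exists_e h2 hc
  have hd : quadraticChar F c = 1 ∨ quadraticChar F c = -1 := quadraticChar_dichotomy hc
  have hdd : quadraticChar F c * quadraticChar F c = 1 := by rw [← pow_two, quadraticChar_sq_one hc]
  have hB := Sp.block h2 hm1 hc he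
  rcases (by omega : (m % 4 = 1 ∨ m % 4 = 2) ∨ m % 4 = 3 ∨ m % 4 = 0) with h | h | h
  · exact nr_of_sp h2 hm1 he hd (hB m) (Sp.zero e _) (by rw [sg_eq, if_pos h]; rfl) (by omega) Even.zero rfl hQ
      (by rw [hdim]) hcd.symm
  · refine nr_of_sp h2 hm1 he hd (hB 0) ((hB (m - 1)).prod h2 (hB 0) ?_) ?_ ?_ ?_ hdd hQ ?_ hcd.symm
    · intro n hn hn'
      rw [Set.mem_singleton_iff] at hn hn'
      omega
    · rw [sg_eq, sg_eq, if_neg (by omega), if_pos (by omega)]; rfl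
    · omega
    · exact ⟨m, by omega⟩
    · rw [hdim]; omega
  · refine nr_of_sp h2 hm1 he hd (hB 1) ((hB (m - 3)).prod h2 (hB 1) ?_) ?_ ?_ ?_ hdd hQ ?_ hcd.symm
    · intro n hn hn'
      rw [Set.mem_singleton_iff] at hn hn'
      omega
    · rw [sg_eq, sg_eq, if_pos (by omega), if_pos (by omega)]; rfl
    · omega
    · exact ⟨m - 1, by omega⟩
    · rw [hdim]; omega

/-- plus type, dimension divisible by four -/
theorem nr_plus (hF : Fintype.card F % 4 = 3) {n : ℕ} (hn : 3 ≤ n) {ι : Type} [Fintype ι]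
    [DecidableEq ι] {Q : QuadraticForm F (ι → F)} (hQ : Nondeg Q) (hdim : Fintype.card ι = 4 * n)
    (hdc : dc Q = 1) : NR Q := by
  have h2 := two_ne hF
  have hm1 := chi_neg_one hF
  have hc : (1 : F) ≠ 0 := one_ne_zero
  obtain ⟨e, he⟩ := exists_e h2 hc
  have hd : quadraticChar F 1 = 1 ∨ quadraticChar F (1 : F) = -1 := quadraticChar_dichotomy hc
  have hdd : quadraticChar F 1 * quadraticChar F 1 = 1 := by rw [← pow_two, quadraticChar_sq_one hc]
  have hB := Sp.block h2 hm1 hc he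
  rcases (by omega : n % 2 = 1 ∨ n % 2 = 0) with h | h
  · refine nr_of_sp h2 hm1 he hd ((hB (2 * n - 1)).prod h2 (hB 0) ?_) (Sp.zero e _) ?_ ?_ Even.zero rfl hQ ?_
      (by rw [hdc, hdd])
    · intro n hn hn'
      rw [Set.mem_singleton_iff] at hn hn'
      omega
    · rw [sg_eq, sg_eq, if_pos (by omega), if_neg (by omega)]; rfl
    · omega
    · rw [hdim]; omega
  · refine nr_of_sp h2 hm1 he hd ((hB 2).prod h2 (hB 0) ?_) ((hB (2 * n - 4)).prod h2 (hB 0) ?_) ?_ ?_ ?_ hdd hQ ?_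
      (by rw [hdc, hdd])
    · intro n hn hn'
      rw [Set.mem_singleton_iff] at hn hn'
      omega
    · intro n hn hn'
      rw [Set.mem_singleton_iff] at hn hn'
      omega
    · rw [sg_eq, sg_eq, sg_eq, if_pos (by omega), if_neg (by omega), if_neg (by omega)]; rfl
    · omega
    · exact ⟨2 * n - 3, by omega⟩
    · rw [hdim]; omega

end

section rows

variable {F : Type u} [Field F] [Finite F]

theorem dc_plus_form [Fintype F] [DecidableEq F] (k : ℕ) : dc (plusForm k F) = quadraticChar F (-1) ^ k := by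
  let e : ((Fin k → F) × (Fin k → F)) ≃ₗ[F] (Fin k ⊕ Fin k → F) :=
    (LinearEquiv.sumArrowLequivProdArrow (Fin k) (Fin k) F F).symm
  have he : IsIso (Cfsg.Agent.H160.QSemi.hyp F k) (plusForm k F) e := by
    rintro ⟨x, y⟩
    rw [coe_plusForm, quadFormPlus_apply, Cfsg.Agent.H160.QSemi.hyp_apply]
    rfl
  rw [dc_iso he, Cfsg.Agent.H160.QSemi.dc_hyp]

/-- **odd dimension** -/
theorem nrel_odd (hF : Nat.card F % 4 = 3) {m : ℕ} (hm : 3 ≤ m) (hm4 : m ≠ 4) :
    Cfsg.Agent.H721.SR.NRel (Cfsg.POmega F (Cfsg.quadFormOdd m F)) := by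
  classical
  have := Fintype.ofFinite F
  rw [Nat.card_eq_fintype_card] at hF
  have h2 := two_ne hF
  have hnd : Nondeg (oddForm m F) := nondeg_oddForm m F h2
  have hcard : Fintype.card (Unit ⊕ (Fin m ⊕ Fin m)) = 2 * m + 1 := by
    simp only [Fintype.card_sum, Fintype.card_unit, Fintype.card_fin]
    omega
  have hG : Good (oddForm m F) := good_of_finite hnd (by
    rw [finrank_fintype_fun_eq_card, hcard]
    omega)
  have h := nrel_of_nr h2 hG (nr_odd hF hm hm4 hnd hcard)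
  rwa [coe_oddForm] at h

/-- **plus type, dimension divisible by four** -/
theorem nrel_plus (hF : Nat.card F % 4 = 3) {n : ℕ} (hn : 3 ≤ n) :
    Cfsg.Agent.H721.SR.NRel (Cfsg.POmega F (Cfsg.quadFormPlus (2 * n) F)) := by
  classical
  have := Fintype.ofFinite F
  rw [Nat.card_eq_fintype_card] at hF
  have h2 := two_ne hF
  have hm1 := chi_neg_one hF
  have hnd : Nondeg (plusForm (2 * n) F) := nondeg_plusForm (2 * n) F
  have hcard : Fintype.card (Fin (2 * n) ⊕ Fin (2 * n)) = 4 * n := by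
    simp only [Fintype.card_sum, Fintype.card_fin]
    omega
  have hG : Good (plusForm (2 * n) F) := good_of_finite hnd (by
    rw [finrank_fintype_fun_eq_card, hcard]
    omega)
  have h := nrel_of_nr h2 hG (nr_plus hF hn hnd hcard (by
    rw [dc_plus_form, hm1, pow_mul]
    norm_num))
  rwa [coe_plusForm] at h

end rows

end Cfsg.Agent.H864.SRN
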