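import Cfsg.Agent.H864.SRN.Psi

/-!
# TEAM SR, orthogonal groups, `q = 3 mod 4`: centralizers of regular-type unipotent elements

`Adm d S Q t` : `t` is a skew nilpotent map, all Jordan blocks have odd size `n + 1`, `n ∈ S`, and the forms
`polar x (t^n x)` take only values of the class `d` (so the blocks have multiplicity one).
`psi_comm` : isometries commuting with `t` have `psi = 1`.
-/

set_option autoImplicit false
set_option linter.unusedSectionVars false

namespace Cfsg.Agent.H864.SRN

open QuadraticMap Module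
open Cfsg.Agent.LieClassical.OrthCore Cfsg.Agent.H160.QSpin Cfsg.Agent.H160.QDisc Cfsg.Agent.H160.QSplit

universe u v w

section

variable {F : Type u} {V : Type v} [Field F] [Fintype F] [DecidableEq F] [AddCommGroup V] [Module F V]

theorem exists_sq_add (h2 : (2 : F) ≠ 0) {D : F} (hD : D ≠ 0) (c : F) : ∃ x y : F, x ^ 2 + D * y ^ 2 = c := by
  have hodd : Fintype.card F % 2 = 1 := by
    have hchar : ringChar F ≠ 2 := by
      intro h
      apply h2
      have := ringChar.spec F 2
      rw [h] at this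
      exact_mod_cast this.2 (dvd_refl 2)
    exact FiniteField.odd_card_of_char_ne_two hchar
  have hf : (Polynomial.X ^ 2 : Polynomial F).degree = 2 := Polynomial.degree_X_pow 2
  have hg : (Polynomial.C D * Polynomial.X ^ 2 - Polynomial.C c : Polynomial F).degree = 2 := by
    compute_degree!
  obtain ⟨a, b, h⟩ := FiniteField.exists_root_sum_quadratic hf hg hodd
  refine ⟨a, b, ?_⟩
  simp only [Polynomial.eval_pow, Polynomial.eval_X, Polynomial.eval_sub, Polynomial.eval_mul, Polynomial.eval_C] at h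
  linear_combination h

theorem exists_other (h2 : (2 : F) ≠ 0) (d : ℤ) : ∃ u : F, u ≠ 0 ∧ quadraticChar F u ≠ d := by
  by_cases hd : d = 1
  · obtain ⟨c, hc, h⟩ := exists_qc (F := F) h2 (d := -1) (Or.inr rfl)
    exact ⟨c, hc, by rw [h, hd]; decide⟩
  · exact ⟨1, one_ne_zero, by rw [map_one]; exact fun h => hd h.symm⟩

/-- a binary form all of whose nonzero values lie in one class is degenerate -/
theorem binary (h2 : (2 : F) ≠ 0) {d : ℤ} {a b c : F}
    (h : ∀ s t : F, a * s ^ 2 + 2 * b * s * t + c * t ^ 2 ≠ 0 →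
      quadraticChar F (a * s ^ 2 + 2 * b * s * t + c * t ^ 2) = d) : a * c = b ^ 2 := by
  obtain ⟨u, hu, hud⟩ := exists_other (F := F) h2 d
  by_contra hne
  have hD : a * c - b ^ 2 ≠ 0 := sub_ne_zero.2 hne
  have key : ∃ s t : F, a * s ^ 2 + 2 * b * s * t + c * t ^ 2 = u := by
    by_cases ha : a = 0
    · by_cases hc : c = 0
      · have hb : b ≠ 0 := by
          rintro rfl
          apply hD
          rw [ha]; ring
        refine ⟨1, u / (2 * b), ?_⟩
        rw [ha, hc]
        field_simp
        ring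
      · obtain ⟨x, y, hxy⟩ := exists_sq_add h2 hD (c * u)
        refine ⟨y, (x - b * y) / c, ?_⟩
        field_simp
        linear_combination hxy
    · obtain ⟨x, y, hxy⟩ := exists_sq_add h2 hD (a * u)
      refine ⟨(x - b * y) / a, y, ?_⟩
      field_simp
      linear_combination hxy
  obtain ⟨s, t, hst⟩ := key
  apply hud
  rw [← hst]
  apply h
  rw [hst]
  exact hu

/-- the condition -/
structure Adm (d : ℤ) (S : Set ℕ) (Q : QuadraticForm F V) (t : Module.End F V) : Prop where
  nd : Nondeg Q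
  skew : ∀ x y, polar Q (t x) y = - polar Q x (t y)
  nil : ∃ N, t ^ N = 0
  even : ∀ n ∈ S, Even n
  on : ∀ n ∈ S, ∀ x, (t ^ (n + 1)) x = 0 → polar Q x ((t ^ n) x) ≠ 0 →
    quadraticChar F (polar Q x ((t ^ n) x)) = d
  off : ∀ n, n ∉ S → ∀ x y, (t ^ (n + 1)) x = 0 → (t ^ (n + 1)) y = 0 → polar Q x ((t ^ n) y) = 0

theorem skew_pow {Q : QuadraticForm F V} {t : Module.End F V} (h : ∀ x y, polar Q (t x) y = - polar Q x (t y))
    (n : ℕ) (x y : V) : polar Q ((t ^ n) x) y = (-1) ^ n * polar Q x ((t ^ n) y) := by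
  induction n generalizing x y with
  | zero => simp
  | succ n ih =>
    rw [pow_succ', Module.End.mul_apply, h, ih, pow_succ (-1 : F), ← Module.End.mul_apply, ← pow_succ, pow_succ']
    ring

/-- restriction to an invariant nondegenerate subspace -/
theorem Adm.restrict {d : ℤ} {S : Set ℕ} {Q : QuadraticForm F V} {t : Module.End F V} (h : Adm d S Q t)
    {W : Submodule F V} (ht : ∀ x ∈ W, t x ∈ W) (hW : Nondeg (Q.comp W.subtype)) :
    Adm d S (Q.comp W.subtype) (t.restrict ht) := by
  have hpow : ∀ (n : ℕ) (x : W), (((t.restrict ht) ^ n) x : V) = (t ^ n) x := by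
    intro n
    induction n with
    | zero => intro x; rfl
    | succ n ih =>
      intro x
      rw [pow_succ', Module.End.mul_apply, LinearMap.coe_restrict_apply, ih, pow_succ', Module.End.mul_apply]
  have hpol : ∀ x y : W, polar (Q.comp W.subtype) x y = polar Q x y := fun x y => rfl
  refine ⟨hW, ?_, ?_, h.even, ?_, ?_⟩
  · intro x y
    rw [hpol, hpol]
    exact h.skew x y
  · obtain ⟨N, hN⟩ := h.nil
    refine ⟨N, ?_⟩
    ext x
    rw [hpow, hN]
    rfl
  · intro n hn x hx h0
    rw [hpol, hpow] at h0 ⊢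
    refine h.on n hn x ?_ h0
    rw [← hpow, hx]
    rfl
  · intro n hn x y hx hy
    rw [hpol, hpow]
    refine h.off n hn x y ?_ ?_
    · rw [← hpow, hx]; rfl
    · rw [← hpow, hy]; rfl

end

variable {F : Type u} [Field F] [Fintype F] [DecidableEq F]

theorem psi_comm_aux (h2 : (2 : F) ≠ 0) (hm1 : quadraticChar F (-1) = -1) {e : ℕ} {d : ℤ}
    (he : (-1) ^ e = - quadraticChar F 2 * d) (hd : d = 1 ∨ d = -1) (N : ℕ) :
    ∀ (V : Type v) [AddCommGroup V] [Module F V] [FiniteDimensional F V] [Finite V] (Q : QuadraticForm F V)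
      (t : Module.End F V) (S : Set ℕ), Adm d S Q t → finrank F V = N → ∀ (c : V ≃ₗ[F] V) (hc : c ∈ O Q),
      (∀ x, c (t x) = t (c x)) → (∃ k : ℕ, c ^ 2 ^ k = 1) → psi e Q ⟨c, hc⟩ = 1 := by
  induction N using Nat.strong_induction_on with
  | _ N ih =>
  intro V _ _ _ _ Q t S hA hN c hc hct hck
  by_cases hc1 : c = 1
  · subst hc1
    exact map_one (psi e Q)
  have hnt : Nontrivial V := by
    by_contra hn
    rw [not_nontrivial_iff_subsingleton] at hn
    apply hc1
    ext x
    exact Subsingleton.elim _ _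
  -- the nilpotency index
  classical
  obtain ⟨n, hn0, hn1⟩ : ∃ n, t ^ (n + 1) = 0 ∧ t ^ n ≠ 0 := by
    have hex := hA.nil
    obtain ⟨m, hm⟩ : ∃ m, Nat.find hex = m + 1 := by
      apply Nat.exists_eq_succ_of_ne_zero
      intro h0
      have h1 := Nat.find_spec hex
      rw [h0, pow_zero] at h1
      exact one_ne_zero h1
    refine ⟨m, ?_, ?_⟩
    · rw [← hm]
      exact Nat.find_spec hex
    · exact Nat.find_min hex (by omega)
  have hz : ∀ x, (t ^ (n + 1)) x = 0 := fun x => by rw [hn0]; rfl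
  obtain ⟨x₁, y₁, hxy⟩ : ∃ x y, polar Q x ((t ^ n) y) ≠ 0 := by
    by_contra hcon
    push Not at hcon
    apply hn1
    ext y
    apply hA.nd
    intro x
    rw [polar_comm]
    exact hcon x y
  have hnS : n ∈ S := by
    by_contra hnS
    exact hxy (hA.off n hnS x₁ y₁ (hz _) (hz _))
  have hev : Even n := hA.even n hnS
  set β : V → V → F := fun x y => polar Q x ((t ^ n) y) with hβ
  have hsymm : ∀ x y, β x y = β y x := by
    intro x y
    have h1 := skew_pow hA.skew n x y
    rw [hev.neg_one_pow, one_mul] at h1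
    show polar Q x ((t ^ n) y) = polar Q y ((t ^ n) x)
    rw [← h1, polar_comm]
  have hadd : ∀ x y z, β x (y + z) = β x y + β x z := by
    intro x y z
    show polar Q x ((t ^ n) (y + z)) = _
    rw [map_add, polar_add_right]
  have hsmul : ∀ (r : F) x y, β x (r • y) = r * β x y := by
    intro r x y
    show polar Q x ((t ^ n) (r • y)) = _
    rw [map_smul, polar_smul_right, smul_eq_mul]
  have hadd' : ∀ x y z, β (y + z) x = β y x + β z x := by
    intro x y z
    rw [hsymm, hadd, hsymm x y, hsymm x z]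
  have hsmul' : ∀ (r : F) x y, β (r • y) x = r * β y x := by
    intro r x y
    rw [hsymm, hsmul, hsymm x y]
  obtain ⟨x₀, hx₀⟩ : ∃ x, β x x ≠ 0 := by
    by_contra hcon
    push Not at hcon
    apply hxy
    have h1 := hcon (x₁ + y₁)
    rw [hadd, hadd', hadd', hcon, hcon, hsymm y₁ x₁, zero_add, add_zero, ← two_mul] at h1
    exact (mul_eq_zero.1 h1).resolve_left h2
  set a := β x₀ x₀ with ha
  have hr1 : ∀ y, a * β y y = β x₀ y ^ 2 := by
    intro y
    apply binary h2 (d := d)
    intro s r h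
    have h3 : a * s ^ 2 + 2 * β x₀ y * s * r + β y y * r ^ 2 = β (s • x₀ + r • y) (s • x₀ + r • y) := by
      rw [hadd, hadd', hadd', hsmul, hsmul, hsmul, hsmul, hsmul', hsmul', hsmul', hsmul', hsymm y x₀]
      ring
    rw [h3] at h ⊢
    exact hA.on n hnS _ (hz _) h
  have hr2 : ∀ y z, a * β y z = β x₀ y * β x₀ z := by
    intro y z
    have h1 := hr1 (y + z)
    have h3 := hr1 y
    have h4 := hr1 z
    rw [hadd, hadd', hadd', hadd, hsymm z y] at h1
    have h5 : (2 : F) * (a * β y z) = 2 * (β x₀ y * β x₀ z) := by linear_combination h1 - h3 - h4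
    exact mul_left_cancel₀ h2 h5
  -- the eigenvalue
  have hctn : ∀ m x, c ((t ^ m) x) = (t ^ m) (c x) := by
    intro m
    induction m with
    | zero => intro x; rfl
    | succ m ihm => intro x; rw [pow_succ', Module.End.mul_apply, hct, ihm, Module.End.mul_apply]
  have hcβ : ∀ x y, β (c x) (c y) = β x y := by
    intro x y
    show polar Q (c x) ((t ^ n) (c y)) = _
    rw [← hctn, polar_map hc]
  set ε := β x₀ (c x₀) / a with hε
  have hε2 : ε * ε = 1 := by
    have h1 := hr2 (c x₀) (c x₀)
    rw [hcβ] at h1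
    rw [hε]
    field_simp
    linear_combination -h1
  have hε0 : ε ≠ 0 := by
    intro h0
    rw [h0, zero_mul] at hε2
    exact zero_ne_one hε2
  have hεc : ∀ y, β x₀ (c y) = ε * β x₀ y := by
    intro y
    have h1 := hr2 (c x₀) (c y)
    rw [hcβ] at h1
    have h3 : β x₀ y = ε * β x₀ (c y) := by
      rw [hε, div_mul_eq_mul_div, ← h1, mul_div_cancel_left₀ _ hx₀]
    rw [h3, ← mul_assoc, hε2, one_mul]
  obtain ⟨k, hk⟩ := hck
  have hck1 : (en c) ^ 2 ^ (k + 1) = 1 := by
    rw [← en_pow, pow_succ, pow_mul, hk, one_pow]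
    rfl
  have hεk : ε ^ 2 ^ (k + 1) = 1 := by
    rw [pow_succ', pow_mul, pow_two, hε2, one_pow]
  set T : Module.End F V := ε • en c with hT
  have hTk : T ^ 2 ^ (k + 1) = 1 := by rw [hT, smul_pow, hck1, hεk, one_smul]
  have hTβ : ∀ y, β x₀ (T y) = β x₀ y := by
    intro y
    show β x₀ (ε • c y) = _
    rw [hsmul, hεc, ← mul_assoc, hε2, one_mul]
  have hTβn : ∀ (m : ℕ) y, β x₀ ((T ^ m) y) = β x₀ y := by
    intro m
    induction m with
    | zero => intro y; rfl
    | succ m ihm => intro y; rw [pow_succ', Module.End.mul_apply, hTβ, ihm]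
  set x := (∑ i ∈ Finset.range (2 ^ (k + 1)), T ^ i) x₀ with hx
  have hTx : T x = x := by
    have h1 : T * ∑ i ∈ Finset.range (2 ^ (k + 1)), T ^ i = ∑ i ∈ Finset.range (2 ^ (k + 1)), T ^ i := by
      have h3 := mul_geom_sum T (2 ^ (k + 1))
      rw [hTk, sub_self, sub_mul, one_mul, sub_eq_zero] at h3
      exact h3
    rw [hx, ← Module.End.mul_apply, h1]
  have hcx : c x = ε • x := by
    have h1 : ε • T x = c x := by
      show ε • (ε • c x) = c x
      rw [smul_smul, hε2, one_smul]
    rw [← h1, hTx]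
  have hx0 : β x₀ x = 2 ^ (k + 1) * a := by
    have h1 : ∀ s : Finset ℕ, β x₀ ((∑ i ∈ s, T ^ i) x₀) = (s.card : F) * a := by
      intro s
      induction s using Finset.induction_on with
      | empty => simp [hβ]
      | insert i s hi ihs =>
        rw [Finset.sum_insert hi, LinearMap.add_apply, hadd, ihs, hTβn, Finset.card_insert_of_notMem hi]
        push_cast
        ring
    rw [hx, h1, Finset.card_range]
    push_cast
    rfl
  have hb0 : β x x ≠ 0 := by
    intro h0
    have h1 := hr1 x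
    rw [h0, mul_zero, hx0, eq_comm, pow_eq_zero_iff two_ne_zero] at h1
    exact mul_ne_zero (pow_ne_zero _ h2) hx₀ h1
  set b := β x x with hb
  have hbd : quadraticChar F b = d := hA.on n hnS x (hz x) hb0
  -- the subspace
  set v : Fin (n + 1) → V := fun i => (t ^ (i : ℕ)) x with hv
  have hgram : ∀ i j : Fin (n + 1), polar Q (v i) (v j) = (-1) ^ (i : ℕ) * polar Q x ((t ^ ((i : ℕ) + j)) x) := by
    intro i j
    show polar Q ((t ^ (i : ℕ)) x) ((t ^ (j : ℕ)) x) = _
    rw [skew_pow hA.skew, ← Module.End.mul_apply, ← pow_add]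
  have hzero : ∀ i j : Fin (n + 1), n + 1 ≤ (i : ℕ) + j → polar Q (v i) (v j) = 0 := by
    intro i j hij
    rw [hgram]
    obtain ⟨r, hr⟩ := Nat.exists_eq_add_of_le hij
    rw [hr, add_comm (n + 1) r, pow_add, Module.End.mul_apply, hz, map_zero, polar_zero_right, mul_zero]
  have hdiag : ∀ i : Fin (n + 1), (-1) ^ (i : ℕ) * polar Q (v i) (v i.rev) = b := by
    intro i
    rw [hgram, ← mul_assoc, ← mul_pow]
    have : (i : ℕ) + (i.rev : Fin (n + 1)) = n := by rw [Fin.val_rev]; omega
    rw [this]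
    simp [hb, hβ]
  have hdet : (Matrix.of fun i j : Fin (n + 1) => polar Q (v i) (v j)).det = b ^ (n + 1) := by
    rw [det_anti (Matrix.of fun i j : Fin (n + 1) => polar Q (v i) (v j)) hzero]
    simp only [Matrix.of_apply, hdiag, Finset.prod_const, Finset.card_univ, Fintype.card_fin]
  have hli : LinearIndependent F v := by
    rw [Fintype.linearIndependent_iff]
    intro f hf
    have h1 : (Matrix.of fun i j : Fin (n + 1) => polar Q (v i) (v j)).mulVec f = 0 := by
      ext i
      rw [Matrix.mulVec, dotProduct]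
      have h3 : polar Q (v i) (∑ j, f j • v j) = 0 := by rw [hf, polar_zero_right]
      have h4 : polar Q (v i) (∑ j, f j • v j) = ∑ j, f j * polar Q (v i) (v j) := by
        change (polarBilin Q (v i)) (∑ j, f j • v j) = _
        rw [map_sum]
        refine Finset.sum_congr rfl fun j _ => ?_
        rw [map_smul, smul_eq_mul]
        rfl
      rw [h4] at h3
      simp only [Matrix.of_apply, Pi.zero_apply]
      rw [← h3]
      exact Finset.sum_congr rfl fun j _ => mul_comm _ _
    have h3 := Matrix.eq_zero_of_mulVec_eq_zero (by rw [hdet]; exact pow_ne_zero _ hb0) h1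
    intro i
    rw [h3]
    rfl
  set U : Submodule F V := Submodule.span F (Set.range v) with hU
  let bU : Basis (Fin (n + 1)) F U := Basis.span hli
  have hbU : ∀ i, ((bU i : U) : V) = v i := fun i => congrArg Subtype.val (Basis.span_apply hli i)
  have hdimU : finrank F U = n + 1 := by
    rw [finrank_eq_card_basis bU, Fintype.card_fin]
  have hpolU : ∀ y z : U, polar (Q.comp U.subtype) y z = polar Q y z := fun y z => rfl
  have hdcU : dc (Q.comp U.subtype) = d := by
    rw [dc_anti bU]
    · have h1 : ∀ i : Fin (n + 1), (-1) ^ (i : ℕ) * polar (Q.comp U.subtype) (bU i) (bU i.rev) = b := by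
        intro i
        rw [hpolU, hbU, hbU, hdiag]
      simp only [h1, Finset.prod_const, Finset.card_univ, Fintype.card_fin, map_pow, hbd]
      rw [pow_succ]
      rcases hd with rfl | rfl
      · simp
      · rw [hev.neg_one_pow, one_mul]
    · intro i j hij
      rw [hpolU, hbU, hbU, hzero i j hij]
  have hndU : (LinearMap.BilinForm.restrict (polarBilin Q) U).Nondegenerate := by
    rw [LinearMap.BilinForm.nondegenerate_iff_det_ne_zero bU]
    have h1 : LinearMap.BilinForm.toMatrix bU (LinearMap.BilinForm.restrict (polarBilin Q) U) =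
        Matrix.of fun i j : Fin (n + 1) => polar Q (v i) (v j) := by
      ext i j
      rw [LinearMap.BilinForm.toMatrix_apply, Matrix.of_apply, ← hbU, ← hbU]
      rfl
    rw [h1, hdet]
    exact pow_ne_zero _ hb0
  have hrefl : (polarBilin Q).IsRefl := (isSymm_bilin Q).isRefl
  have hcompl := LinearMap.BilinForm.isCompl_orthogonal_of_restrict_nondegenerate hrefl hndU
  set W := LinearMap.BilinForm.orthogonal (polarBilin Q) U with hW
  have hUW : ∀ y ∈ U, ∀ z ∈ W, polar Q y z = 0 := by
    intro y hy z hz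
    exact hz y hy
  have hWmem : ∀ z, (∀ y ∈ U, polar Q y z = 0) → z ∈ W := fun z h y hy => h y hy
  have hcU : ∀ y ∈ U, c y = ε • y := by
    intro y hy
    induction hy using Submodule.span_induction with
    | mem y hy =>
      obtain ⟨i, rfl⟩ := hy
      show c ((t ^ (i : ℕ)) x) = ε • (t ^ (i : ℕ)) x
      rw [hctn, hcx, map_smul]
    | zero => rw [map_zero, smul_zero]
    | add y z _ _ h1 h3 => rw [map_add, h1, h3, smul_add]
    | smul r y _ h1 => rw [map_smul, h1, smul_comm]
  have htU : ∀ y ∈ U, t y ∈ U := by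
    intro y hy
    induction hy using Submodule.span_induction with
    | mem y hy =>
      obtain ⟨i, rfl⟩ := hy
      show t ((t ^ (i : ℕ)) x) ∈ U
      rw [← Module.End.mul_apply, ← pow_succ']
      by_cases hi : (i : ℕ) + 1 < n + 1
      · exact Submodule.subset_span ⟨⟨(i : ℕ) + 1, hi⟩, rfl⟩
      · have : (i : ℕ) + 1 = n + 1 := by omega
        rw [this, hz]
        exact U.zero_mem
    | zero => rw [map_zero]; exact U.zero_mem
    | add y z _ _ h1 h3 => rw [map_add]; exact U.add_mem h1 h3
    | smul r y _ h1 => rw [map_smul]; exact U.smul_mem r h1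
  have hcU' : ∀ y ∈ U, c y ∈ U := fun y hy => by rw [hcU y hy]; exact U.smul_mem _ hy
  have hcW : ∀ z ∈ W, c z ∈ W := by
    intro z hz'
    apply hWmem
    intro y hy
    have h1 : polar Q (c y) (c z) = 0 := by rw [polar_map hc]; exact hUW y hy z hz'
    rw [hcU y hy, polar_smul_left, smul_eq_mul] at h1
    exact (mul_eq_zero.1 h1).resolve_left hε0
  have htW : ∀ z ∈ W, t z ∈ W := by
    intro z hz'
    apply hWmem
    intro y hy
    have h1 := hA.skew y z
    rw [hUW _ (htU y hy) z hz', eq_comm, neg_eq_zero] at h1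
    exact h1
  obtain ⟨c₁, c₂, f, hf, hcf, h5, h6⟩ := split_of_compl hcompl hUW hcU' hcW
  have hprod : Nondeg ((Q.comp U.subtype).prod (Q.comp W.subtype)) := hf.symm.nondeg hA.nd
  obtain ⟨hnd1, hnd2⟩ := nondeg_of_prod hprod
  have hc₁ : c₁ ∈ O (Q.comp U.subtype) := by
    intro y
    show Q (c₁ y : V) = Q (y : V)
    rw [h5, mem_O.1 hc]
  have hc₂ : c₂ ∈ O (Q.comp W.subtype) := by
    intro y
    show Q (c₂ y : V) = Q (y : V)
    rw [h6, mem_O.1 hc]
  have hpsi : psi e Q ⟨c, hc⟩ = psi e (Q.comp U.subtype) ⟨c₁, hc₁⟩ * psi e (Q.comp W.subtype) ⟨c₂, hc₂⟩ := by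
    rw [← psi_pr e h2 hnd1 hnd2 hc₁ hc₂, ← psi_cj e hf (pr_mem_O hc₁ hc₂)]
    congr 1
    exact Subtype.ext hcf
  have hpsi1 : psi e (Q.comp U.subtype) ⟨c₁, hc₁⟩ = 1 := by
    rcases mul_self_eq_one_iff.1 hε2 with h | h
    · have : c₁ = 1 := by
        ext y
        rw [h5, hcU y y.2, h, one_smul]
        rfl
      have h7 : (⟨c₁, hc₁⟩ : O (Q.comp U.subtype)) = 1 := Subtype.ext this
      rw [h7, map_one]
    · have : c₁ = LinearEquiv.neg F := by
        ext y
        rw [h5, hcU y y.2, h, neg_one_smul]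
        rfl
      have h7 : (⟨c₁, hc₁⟩ : O (Q.comp U.subtype)) = ⟨LinearEquiv.neg F, neg_mem_O _⟩ := Subtype.ext this
      rw [h7, psi_neg e h2 hnd1, hdimU, hdcU, hm1, (hev.add_one).neg_one_pow, he]
      have hx2 : quadraticChar F 2 ^ 2 = 1 := quadraticChar_sq_one h2
      have h8 : (- quadraticChar F 2) ^ (n + 1) = - quadraticChar F 2 := by
        rw [hev.add_one.neg_pow, pow_succ]
        obtain ⟨r, hr⟩ := hev
        rw [hr, ← two_mul, pow_mul, hx2, one_pow, one_mul]
      rw [h8]
      rcases hd with rfl | rfl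
      · linear_combination hx2
      · linear_combination hx2
  have hpsi2 : psi e (Q.comp W.subtype) ⟨c₂, hc₂⟩ = 1 := by
    have hlt : finrank F W < N := by
      have h7 := Submodule.finrank_add_eq_of_isCompl hcompl
      rw [hdimU, hN] at h7
      omega
    refine ih _ hlt W (Q.comp W.subtype) (t.restrict htW) S (hA.restrict htW hnd2) rfl c₂ hc₂ ?_ ⟨k, ?_⟩
    · intro y
      apply Subtype.ext
      rw [h6, LinearMap.coe_restrict_apply, LinearMap.coe_restrict_apply, h6, hct]
    · have h7 : ∀ (m : ℕ) (y : W), ((c₂ ^ m) y : V) = (c ^ m) y := by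
        intro m
        induction m with
        | zero => intro y; rfl
        | succ m ihm =>
          intro y
          rw [pow_succ', pow_succ']
          show ((c₂ ((c₂ ^ m) y) : W) : V) = c ((c ^ m) y)
          rw [h6, ihm]
      ext y
      rw [h7, hk]
      rfl
  rw [hpsi, hpsi1, hpsi2, one_mul]

/-- **isometries commuting with `t`** -/
theorem psi_comm {V : Type v} [AddCommGroup V] [Module F V] [FiniteDimensional F V] [Finite V] (h2 : (2 : F) ≠ 0)
    (hm1 : quadraticChar F (-1) = -1) {e : ℕ} {d : ℤ}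
    (he : (-1) ^ e = - quadraticChar F 2 * d) (hd : d = 1 ∨ d = -1) {Q : QuadraticForm F V}
    {t : Module.End F V} {S : Set ℕ} (hA : Adm d S Q t) {c : V ≃ₗ[F] V} (hc : c ∈ O Q)
    (hct : ∀ x, c (t x) = t (c x)) : psi e Q ⟨c, hc⟩ = 1 := by
  have hfin : Finite (V ≃ₗ[F] V) := Finite.of_injective (fun g : V ≃ₗ[F] V => (g : V → V)) DFunLike.coe_injective
  obtain ⟨k, m, hm, hkm⟩ := Nat.exists_eq_two_pow_mul_odd (orderOf_pos c).ne'
  have h1 : psi e Q ((⟨c, hc⟩ : O Q) ^ m) = psi e Q ⟨c, hc⟩ := psi_pow_odd e Q _ hm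
  rw [← h1]
  refine psi_comm_aux h2 hm1 he hd _ V Q t S hA rfl (c ^ m) ((O Q).pow_mem hc m) ?_ ⟨k, ?_⟩
  · have : ∀ (r : ℕ) x, (c ^ r) (t x) = t ((c ^ r) x) := by
      intro r
      induction r with
      | zero => intro x; rfl
      | succ r ihr =>
        intro x
        rw [pow_succ']
        show c ((c ^ r) (t x)) = t (c ((c ^ r) x))
        rw [ihr, hct]
    exact this m
  · rw [← pow_mul, mul_comm, ← hkm, pow_orderOf_eq_one]

end Cfsg.Agent.H864.SRN
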