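import Cfsg.Agent.H864.SRN.Adm
import Cfsg.Agent.H959.JordanModel

/-!
# TEAM SR, orthogonal groups, `q = 3 mod 4`: the blocks

* `Jf n c` : the quadratic form on `Fin (n + 1) → F` with polar form `c * altForm n`;
* `adm_block`, `adm_prod`, `adm_zero`;
* `inv n` : the involution `x_i ↦ (-1)^i x_i`, `psi_inv`.
-/

set_option autoImplicit false
set_option linter.unusedSectionVars false

namespace Cfsg.Agent.H864.SRN

open QuadraticMap Module
open Cfsg.Agent.LieClassical.OrthCore Cfsg.Agent.H160.QSpin Cfsg.Agent.H160.QDisc Cfsg.Agent.H160.QSplit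
open Cfsg.Agent.H959

universe u v w

variable {F : Type u} [Field F] [Fintype F] [DecidableEq F]

/-- the form of a block -/
def Jf (n : ℕ) (c : F) : QuadraticForm F (Fin (n + 1) → F) :=
  (c * 2⁻¹) • LinearMap.BilinMap.toQuadraticMap (altForm n : LinearMap.BilinForm F (Fin (n + 1) → F))

theorem polar_Jf (h2 : (2 : F) ≠ 0) {n : ℕ} (hn : Even n) (c : F) (x y : Fin (n + 1) → F) :
    polar (Jf n c) x y = c * altForm n x y := by
  have h1 : altForm n y x = altForm n x y := by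
    rw [altForm_swap, hn.neg_one_pow, one_mul]
  have h3 : polar (Jf n c) x y = (c * 2⁻¹) * (altForm n x y + altForm n y x) := by
    simp only [QuadraticMap.polar, Jf, smul_apply, LinearMap.BilinMap.toQuadraticMap_apply, smul_eq_mul,
      map_add, LinearMap.add_apply]
    ring
  rw [h3, h1]
  field_simp
  ring

theorem shift_apply_zero {n m : ℕ} {x : Fin (n + 1) → F} (h : ((shift n) ^ (m + 1)) x = 0) {i : Fin (n + 1)}
    (hi : (i : ℕ) + m < n) : x i = 0 := by
  have h1 := congrFun h ⟨(i : ℕ) + m + 1, by omega⟩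
  rw [shift_pow, dif_pos (by show m + 1 ≤ (i : ℕ) + m + 1; omega)] at h1
  have h3 : (⟨(i : ℕ) + m + 1 - (m + 1), by omega⟩ : Fin (n + 1)) = i := Fin.ext (by show (i : ℕ) + m + 1 - (m + 1) = i; omega)
  rw [← h3]
  exact h1

theorem adm_block (h2 : (2 : F) ≠ 0) {n : ℕ} (hn : Even n) {c : F} (hc : c ≠ 0) :
    Adm (quadraticChar F c) {n} (Jf n c) (shift n) := by
  refine ⟨?_, ?_, ⟨n + 1, ?_⟩, ?_, ?_, ?_⟩
  · intro x hx
    apply altForm_nondeg n
    intro y
    have h1 := hx y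
    rw [polar_Jf h2 hn] at h1
    exact (mul_eq_zero.1 h1).resolve_left hc
  · intro x y
    rw [polar_Jf h2 hn, polar_Jf h2 hn, altForm_skew, mul_neg]
  · apply LinearMap.ext
    intro x
    ext i
    rw [shift_pow, dif_neg (by omega)]
    rfl
  · intro m hm
    rw [Set.mem_singleton_iff.1 hm]
    exact hn
  · intro m hm x _ h0
    rw [Set.mem_singleton_iff.1 hm] at h0 ⊢
    have h1 : polar (Jf n c) x (((shift n) ^ n) x) = c * (x 0) ^ 2 := by
      rw [polar_Jf h2 hn, altForm_apply, Finset.sum_eq_single (0 : Fin (n + 1))]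
      · rw [shift_pow, dif_pos (by simp)]
        have h3 : (⟨((0 : Fin (n + 1)).rev : ℕ) - n, by omega⟩ : Fin (n + 1)) = 0 := Fin.ext (by simp)
        rw [h3, Fin.val_zero, pow_zero]
        ring
      · intro i _ hi
        rw [shift_pow, dif_neg, mul_zero]
        rw [Fin.val_rev]
        have : (i : ℕ) ≠ 0 := fun h => hi (Fin.ext h)
        omega
      · intro h
        exact absurd (Finset.mem_univ _) h
    rw [h1] at h0 ⊢
    have hx0 : x 0 ≠ 0 := by
      intro h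
      apply h0
      rw [h]; ring
    rw [mul_comm, qc_sq_mul hx0]
  · intro m hm x y hx hy
    rw [polar_Jf h2 hn, altForm_apply]
    rw [Finset.sum_eq_zero, mul_zero]
    intro i _
    rw [shift_pow]
    split_ifs with h
    · rw [Fin.val_rev] at h
      have hm' : m ≠ n := fun h => hm h
      by_cases hi : (i : ℕ) + m < n
      · rw [shift_apply_zero hx hi]
        ring
      · have hy0 : y ⟨(i.rev : ℕ) - m, by omega⟩ = 0 := by
          apply shift_apply_zero hy
          show (i.rev : ℕ) - m + m < n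
          rw [Fin.val_rev]
          omega
        rw [hy0, mul_zero]
    · rw [mul_zero]

section prod

variable {V : Type v} {W : Type w} [AddCommGroup V] [Module F V] [AddCommGroup W] [Module F W]

theorem adm_prod {d : ℤ} {S₁ S₂ : Set ℕ} {Q₁ : QuadraticForm F V} {Q₂ : QuadraticForm F W} {t₁ : Module.End F V}
    {t₂ : Module.End F W} (h₁ : Adm d S₁ Q₁ t₁) (h₂ : Adm d S₂ Q₂ t₂) (hd : ∀ n ∈ S₁, n ∉ S₂) :
    Adm d (S₁ ∪ S₂) (Q₁.prod Q₂) (LinearMap.prodMap t₁ t₂) := by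
  refine ⟨nondeg_prod h₁.nd h₂.nd, ?_, ?_, ?_, ?_, ?_⟩
  · intro x y
    rw [polar_pr, polar_pr, neg_add]
    exact congrArg₂ (· + ·) (h₁.skew _ _) (h₂.skew _ _)
  · obtain ⟨N₁, h3⟩ := h₁.nil
    obtain ⟨N₂, h4⟩ := h₂.nil
    refine ⟨N₁ + N₂, ?_⟩
    rw [prodMap_pow, pow_add, h3, zero_mul, add_comm, pow_add, h4, zero_mul]
    rfl
  · rintro n (hn | hn)
    · exact h₁.even n hn
    · exact h₂.even n hn
  · rintro n hn x hx h0
    rw [prodMap_pow] at hx h0 ⊢
    rw [polar_pr] at h0 ⊢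
    have hx1 : (t₁ ^ (n + 1)) x.1 = 0 := congrArg Prod.fst hx
    have hx2 : (t₂ ^ (n + 1)) x.2 = 0 := congrArg Prod.snd hx
    change polar Q₁ x.1 ((t₁ ^ n) x.1) + polar Q₂ x.2 ((t₂ ^ n) x.2) ≠ 0 at h0
    show quadraticChar F (polar Q₁ x.1 ((t₁ ^ n) x.1) + polar Q₂ x.2 ((t₂ ^ n) x.2)) = d
    by_cases h : n ∈ S₁
    · have h4 := h₂.off n (hd n h) x.2 x.2 hx2 hx2
      rw [h4, add_zero] at h0 ⊢
      exact h₁.on n h x.1 hx1 h0
    · have h4 := h₁.off n h x.1 x.1 hx1 hx1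
      rw [h4, zero_add] at h0 ⊢
      exact h₂.on n (hn.resolve_left h) x.2 hx2 h0
  · intro n hn x y hx hy
    rw [prodMap_pow] at hx hy ⊢
    rw [polar_pr]
    have hx1 : (t₁ ^ (n + 1)) x.1 = 0 := congrArg Prod.fst hx
    have hx2 : (t₂ ^ (n + 1)) x.2 = 0 := congrArg Prod.snd hx
    have hy1 : (t₁ ^ (n + 1)) y.1 = 0 := congrArg Prod.fst hy
    have hy2 : (t₂ ^ (n + 1)) y.2 = 0 := congrArg Prod.snd hy
    show polar Q₁ x.1 ((t₁ ^ n) y.1) + polar Q₂ x.2 ((t₂ ^ n) y.2) = 0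
    rw [h₁.off n (fun h => hn (Or.inl h)) _ _ hx1 hy1, h₂.off n (fun h => hn (Or.inr h)) _ _ hx2 hy2, add_zero]

theorem adm_zero [Subsingleton V] (d : ℤ) (Q : QuadraticForm F V) : Adm d ∅ Q (0 : Module.End F V) := by
  have h0 : ∀ x : V, x = 0 := fun x => Subsingleton.elim _ _
  refine ⟨fun x _ => h0 x, ?_, ⟨1, by rw [pow_one]⟩, ?_, ?_, ?_⟩
  · intro x y
    rw [h0 ((0 : Module.End F V) x), h0 ((0 : Module.End F V) y), polar_zero_left, polar_zero_right, neg_zero]
  · intro n hn; exact hn.elim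
  · intro n hn; exact hn.elim
  · intro n _ x y _ _
    rw [h0 ((((0 : Module.End F V)) ^ n) y), polar_zero_right]

end prod

end Cfsg.Agent.H864.SRN
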