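import Cfsg.Agent.H864.SRN.Inv
import Cfsg.Agent.H160.QUpper

/-!
# TEAM SR, orthogonal groups, `q = 3 mod 4`: Cayley transforms and pairs

* `Cay t g` : `g = (1 + t) / (1 - t)`;
* `Cay.mem`, `Cay.pow_one` : `g` is an isometry of odd order;
* `Cay.comm` : maps commuting with `g` commute with `t`; `Cay.inv` : maps negating `t` invert `g`;
* `exists_pr_of_comm` : isometries commuting with `pr g₁ (-g₂)` are of the form `pr c₁ c₂`.
-/

set_option autoImplicit false
set_option linter.unusedSectionVars false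

namespace Cfsg.Agent.H864.SRN

open QuadraticMap Module
open Cfsg.Agent.LieClassical.OrthCore Cfsg.Agent.H160.QSpin Cfsg.Agent.H160.QDisc Cfsg.Agent.H160.QSplit

universe u v w

variable {F : Type u} {V : Type v} {W : Type w} [Field F] [AddCommGroup V] [Module F V] [AddCommGroup W] [Module F W]

/-- `g = (1 + t) / (1 - t)` -/
def Cay (t : Module.End F V) (g : V ≃ₗ[F] V) : Prop := ∀ x, g (x - t x) = x + t x

theorem exists_cay {t : Module.End F V} (ht : ∃ n, t ^ n = 0) : ∃ g, Cay t g := by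
  obtain ⟨n, hn⟩ := ht
  have hnil : IsNilpotent t := ⟨n, hn⟩
  have h1 := (Module.End.isUnit_iff _).1 hnil.isUnit_one_sub
  have h2 := (Module.End.isUnit_iff _).1 hnil.isUnit_one_add
  refine ⟨(LinearEquiv.ofBijective (1 - t) h1).symm.trans (LinearEquiv.ofBijective (1 + t) h2), fun x => ?_⟩
  have h3 : x - t x = LinearEquiv.ofBijective (1 - t) h1 x := rfl
  rw [h3, LinearEquiv.trans_apply, LinearEquiv.symm_apply_apply]
  rfl

variable {t : Module.End F V} {g : V ≃ₗ[F] V}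

theorem Cay.surj (ht : ∃ n, t ^ n = 0) (y : V) : ∃ x, y = x - t x := by
  obtain ⟨n, hn⟩ := ht
  have hnil : IsNilpotent t := ⟨n, hn⟩
  obtain ⟨x, hx⟩ := ((Module.End.isUnit_iff _).1 hnil.isUnit_one_sub).2 y
  exact ⟨x, hx.symm⟩

theorem Cay.mem {Q : QuadraticForm F V} (h2 : (2 : F) ≠ 0) (ht : ∃ n, t ^ n = 0)
    (hs : ∀ x y, polar Q (t x) y = - polar Q x (t y)) (h : Cay t g) : g ∈ O Q := by
  intro y
  obtain ⟨x, rfl⟩ := Cay.surj ht y
  have h1 : polar Q x (t x) = 0 := by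
    have h3 := hs x x
    rw [polar_comm] at h3
    have h4 : 2 * polar Q x (t x) = 0 := by linear_combination h3
    exact (mul_eq_zero.1 h4).resolve_left h2
  have h5 : Q (x - t x) = Q x + Q (t x) - polar Q x (t x) := by
    rw [sub_eq_add_neg, Q_add, Q.map_neg, polar_neg_right]
    ring
  rw [h, Q_add, h5, h1]
  ring

theorem Cay.t_comm (ht : ∃ n, t ^ n = 0) (h : Cay t g) (y : V) : g (t y) = t (g y) := by
  obtain ⟨x, rfl⟩ := Cay.surj ht y
  rw [h, map_sub, h, map_add]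

theorem Cay.unip (ht : ∃ n, t ^ n = 0) (h : Cay t g) : ∃ n, (en g - 1) ^ n = 0 := by
  obtain ⟨n, hn⟩ := ht
  refine ⟨n, ?_⟩
  have h1 : (en g - 1) * (1 - t) = (2 : F) • t := by
    apply LinearMap.ext
    intro x
    show g (x - t x) - (x - t x) = (2 : F) • t x
    rw [h, two_smul]
    abel
  have hc : Commute (en g - 1) (1 - t) := by
    apply LinearMap.ext
    intro x
    show g (x - t x) - (x - t x) = (g x - x) - t (g x - x)
    rw [map_sub, map_sub, h.t_comm ⟨n, hn⟩]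
    abel
  have h3 : ((en g - 1) * (1 - t)) ^ n = 0 := by rw [h1, smul_pow, hn, smul_zero]
  rw [hc.mul_pow] at h3
  have hnil : IsNilpotent t := ⟨n, hn⟩
  have hu : IsUnit ((1 - t) ^ n) := hnil.isUnit_one_sub.pow n
  exact (hu.mul_left_eq_zero).1 h3

theorem Cay.pow_one [Finite F] (h2 : (2 : F) ≠ 0) (ht : ∃ n, t ^ n = 0) (h : Cay t g) : ∃ M, Odd M ∧ g ^ M = 1 := by
  obtain ⟨p, hp⟩ := CharP.exists F
  have hpp : Fact p.Prime := ⟨CharP.char_is_prime F p⟩
  obtain ⟨n, hn⟩ := h.unip ht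
  have hlt : n < p ^ n := Nat.lt_pow_self hpp.out.one_lt
  refine ⟨p ^ n, ?_, Cfsg.Agent.H160.QUpper.unip_pow (p := p) hn hlt.le⟩
  apply Odd.pow
  rcases hpp.out.eq_two_or_odd' with rfl | h3
  · exact absurd (CharP.cast_eq_zero F 2) (by exact_mod_cast h2)
  · exact h3

theorem Cay.key (ht : ∃ n, t ^ n = 0) (h : Cay t g) (y : V) : t (g y + y) = g y - y := by
  obtain ⟨x, rfl⟩ := Cay.surj ht y
  rw [h]
  have h1 : x + t x + (x - t x) = x + x := by abel
  have h3 : x + t x - (x - t x) = t x + t x := by abel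
  rw [h1, h3, map_add]

theorem Cay.surj' (h2 : (2 : F) ≠ 0) (h : Cay t g) (z : V) : ∃ y, z = g y + y := by
  refine ⟨((2 : F)⁻¹ • z) - t ((2 : F)⁻¹ • z), ?_⟩
  rw [h]
  have h1 : (2 : F)⁻¹ • z + t ((2 : F)⁻¹ • z) + ((2 : F)⁻¹ • z - t ((2 : F)⁻¹ • z)) = (2 : F) • ((2 : F)⁻¹ • z) := by
    rw [two_smul]; abel
  rw [h1, smul_smul, mul_inv_cancel₀ h2, one_smul]

/-- maps commuting with `g` commute with `t` -/
theorem Cay.comm (h2 : (2 : F) ≠ 0) (ht : ∃ n, t ^ n = 0) (h : Cay t g) {c : V ≃ₗ[F] V} (hc : ∀ x, c (g x) = g (c x))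
    (z : V) : c (t z) = t (c z) := by
  obtain ⟨y, rfl⟩ := h.surj' h2 z
  rw [h.key ht, map_sub, map_add, hc, h.key ht]

/-- maps negating `t` invert `g` -/
theorem Cay.inv (ht : ∃ n, t ^ n = 0) (h : Cay t g) {k : V ≃ₗ[F] V} (hk : ∀ x, k (t x) = - t (k x)) :
    k * g * k⁻¹ = g⁻¹ := by
  rw [mul_inv_eq_iff_eq_mul, eq_inv_mul_iff_mul_eq]
  ext y
  obtain ⟨x, rfl⟩ := Cay.surj ht y
  show g (k (g (x - t x))) = k (x - t x)
  rw [h, map_add, map_sub, hk, ← sub_eq_add_neg, h, sub_neg_eq_add]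

/-! ### Pairs -/

theorem exists_pr [FiniteDimensional F V] [FiniteDimensional F W] {c : (V × W) ≃ₗ[F] (V × W)}
    (h1 : ∀ x, (c (x, 0)).2 = 0) (h2 : ∀ y, (c (0, y)).1 = 0) : ∃ c₁ c₂, c = pr c₁ c₂ := by
  let f₁ : V →ₗ[F] V := (LinearMap.fst F V W).comp (c.toLinearMap.comp (LinearMap.inl F V W))
  let f₂ : W →ₗ[F] W := (LinearMap.snd F V W).comp (c.toLinearMap.comp (LinearMap.inr F V W))
  have e₁ : ∀ x, c (x, 0) = (f₁ x, 0) := fun x => Prod.ext rfl (h1 x)
  have e₂ : ∀ y, c (0, y) = (0, f₂ y) := fun y => Prod.ext (h2 y) rfl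
  have i₁ : Function.Injective f₁ := by
    rw [injective_iff_map_eq_zero]
    intro x hx
    have h3 := e₁ x
    rw [hx] at h3
    have h4 : ((x, 0) : V × W) = 0 := c.map_eq_zero_iff.1 h3
    exact congrArg Prod.fst h4
  have i₂ : Function.Injective f₂ := by
    rw [injective_iff_map_eq_zero]
    intro y hy
    have h3 := e₂ y
    rw [hy] at h3
    have h4 : ((0, y) : V × W) = 0 := c.map_eq_zero_iff.1 h3
    exact congrArg Prod.snd h4
  refine ⟨LinearEquiv.ofInjectiveEndo f₁ i₁, LinearEquiv.ofInjectiveEndo f₂ i₂, ?_⟩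
  ext1 ⟨x, y⟩
  have h3 : ((x, y) : V × W) = (x, 0) + (0, y) := by simp
  rw [h3, map_add, e₁, e₂, ← h3, pr_apply]
  simp only [Prod.mk_add_mk, add_zero, zero_add]
  rfl

/-- the involution `1, -1` -/
def zz : (V × W) ≃ₗ[F] (V × W) := pr 1 (LinearEquiv.neg F)

theorem pair_pow {g₁ : V ≃ₗ[F] V} {g₂ : W ≃ₗ[F] W} {M : ℕ} (hM : Odd M) (h1 : g₁ ^ M = 1) (h2 : g₂ ^ M = 1) :
    (pr g₁ (LinearEquiv.neg F * g₂)) ^ M = (zz : (V × W) ≃ₗ[F] (V × W)) := by
  rw [pr_pow, h1, (Cfsg.Agent.H160.QUpper.neg_comm g₂).mul_pow, h2, mul_one]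
  obtain ⟨k, rfl⟩ := hM
  rw [pow_succ, pow_mul, Cfsg.Agent.H160.QUpper.neg_pow_two, one_pow, one_mul]
  rfl

theorem half_zero (h2 : (2 : F) ≠ 0) {x : V} (h : x = -x) : x = 0 := by
  have h1 : (2 : F) • x = 0 := by
    rw [two_smul]
    nth_rewrite 1 [h]
    rw [neg_add_cancel]
  exact (smul_eq_zero.1 h1).resolve_left h2

theorem exists_pr_of_comm [FiniteDimensional F V] [FiniteDimensional F W] (h2 : (2 : F) ≠ 0)
    {c : (V × W) ≃ₗ[F] (V × W)} (h : c * zz = zz * c) : ∃ c₁ c₂, c = pr c₁ c₂ := by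
  have hc : ∀ v, c (zz v) = zz (c v) := fun v => LinearEquiv.congr_fun h v
  refine exists_pr (fun x => ?_) fun y => ?_
  · have h1 := hc (x, 0)
    have h3 : zz (F := F) ((x, 0) : V × W) = (x, 0) := Prod.ext rfl neg_zero
    rw [h3] at h1
    exact half_zero h2 (congrArg Prod.snd h1)
  · have h1 := hc (0, y)
    have h3 : zz (F := F) ((0, y) : V × W) = -(0, y) := Prod.ext neg_zero.symm rfl
    rw [h3, map_neg] at h1
    have h4 : -(c (0, y)).1 = (c (0, y)).1 := congrArg Prod.fst h1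
    exact half_zero h2 h4.symm

theorem finrank_eq_of_anti [FiniteDimensional F V] [FiniteDimensional F W] (h2 : (2 : F) ≠ 0)
    {k : (V × W) ≃ₗ[F] (V × W)} (h : k * zz = LinearEquiv.neg F * (zz * k)) : finrank F V = finrank F W := by
  have hk : ∀ v, k (zz v) = - zz (k v) := fun v => LinearEquiv.congr_fun h v
  have e₁ : ∀ x : V, (k (x, 0)).1 = 0 := by
    intro x
    have h1 := hk (x, 0)
    have h3 : zz (F := F) ((x, 0) : V × W) = (x, 0) := Prod.ext rfl neg_zero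
    rw [h3] at h1
    exact half_zero h2 (congrArg Prod.fst h1)
  have e₂ : ∀ y : W, (k (0, y)).2 = 0 := by
    intro y
    have h1 := hk (0, y)
    have h3 : zz (F := F) ((0, y) : V × W) = -(0, y) := Prod.ext neg_zero.symm rfl
    rw [h3, map_neg, neg_inj] at h1
    exact half_zero h2 (congrArg Prod.snd h1)
  apply le_antisymm
  · let f : V →ₗ[F] W := (LinearMap.snd F V W).comp (k.toLinearMap.comp (LinearMap.inl F V W))
    apply LinearMap.finrank_le_finrank_of_injective (f := f)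
    rw [injective_iff_map_eq_zero]
    intro x hx
    have h3 : k (x, 0) = 0 := Prod.ext (e₁ x) hx
    have h4 : ((x, 0) : V × W) = 0 := k.map_eq_zero_iff.1 h3
    exact congrArg Prod.fst h4
  · let f : W →ₗ[F] V := (LinearMap.fst F V W).comp (k.toLinearMap.comp (LinearMap.inr F V W))
    apply LinearMap.finrank_le_finrank_of_injective (f := f)
    rw [injective_iff_map_eq_zero]
    intro x hx
    have h3 : k (0, x) = 0 := Prod.ext hx (e₂ x)
    have h4 : ((0, x) : V × W) = 0 := k.map_eq_zero_iff.1 h3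
    exact congrArg Prod.snd h4

end Cfsg.Agent.H864.SRN
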