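import Cfsg.Agent.H864.SRN.Block

/-!
# TEAM SR, orthogonal groups, `q = 3 mod 4`: the inverter of a block
-/

set_option autoImplicit false
set_option linter.unusedSectionVars false

namespace Cfsg.Agent.H864.SRN

open QuadraticMap Module
open Cfsg.Agent.LieClassical.OrthCore Cfsg.Agent.H160.QSpin Cfsg.Agent.H160.QDisc Cfsg.Agent.H160.QSplit
open Cfsg.Agent.H959

universe u v w

variable {F : Type u} [Field F] [Fintype F] [DecidableEq F]

/-- interleaving -/
def sp (m : ℕ) : ((Fin m → F) × (Fin (m + 1) → F)) ≃ₗ[F] (Fin (2 * m + 1) → F) where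
  toFun p i := if h : (i : ℕ) % 2 = 1 then p.1 ⟨(i : ℕ) / 2, by omega⟩ else p.2 ⟨(i : ℕ) / 2, by omega⟩
  map_add' p p' := by
    ext i
    by_cases h : (i : ℕ) % 2 = 1 <;> simp [h]
  map_smul' r p := by
    ext i
    by_cases h : (i : ℕ) % 2 = 1 <;> simp [h]
  invFun w := (fun j => w ⟨2 * j + 1, by omega⟩, fun j => w ⟨2 * j, by omega⟩)
  left_inv p := by
    apply Prod.ext
    · ext j
      show dite _ _ _ = _
      rw [dif_pos (by show (2 * (j : ℕ) + 1) % 2 = 1; omega)]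
      exact congrArg p.1 (Fin.ext (by show (2 * (j : ℕ) + 1) / 2 = j; omega))
    · ext j
      show dite _ _ _ = _
      rw [dif_neg (by show ¬ (2 * (j : ℕ)) % 2 = 1; omega)]
      exact congrArg p.2 (Fin.ext (by show (2 * (j : ℕ)) / 2 = j; omega))
  right_inv w := by
    ext i
    by_cases h : (i : ℕ) % 2 = 1
    · simp only [h, dif_pos]
      congr 1
      exact Fin.ext (by show 2 * ((i : ℕ) / 2) + 1 = i; omega)
    · simp only [h, dif_neg, not_false_eq_true]
      congr 1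
      exact Fin.ext (by show 2 * ((i : ℕ) / 2) = i; omega)

theorem sp_odd (m : ℕ) (p : (Fin m → F) × (Fin (m + 1) → F)) (i : Fin (2 * m + 1)) (h : (i : ℕ) % 2 = 1) :
    sp m p i = p.1 ⟨(i : ℕ) / 2, by omega⟩ := dif_pos h

theorem sp_even (m : ℕ) (p : (Fin m → F) × (Fin (m + 1) → F)) (i : Fin (2 * m + 1)) (h : ¬ (i : ℕ) % 2 = 1) :
    sp m p i = p.2 ⟨(i : ℕ) / 2, by omega⟩ := dif_neg h

theorem neg_pow_mul_self (i : ℕ) : ((-1 : F) ^ i) * (-1) ^ i = 1 := by
  rw [← mul_pow]; simp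

/-- the involution `x_i ↦ (-1)^i x_i` -/
def inv (n : ℕ) : (Fin (n + 1) → F) ≃ₗ[F] (Fin (n + 1) → F) where
  toFun x i := (-1) ^ (i : ℕ) * x i
  map_add' x y := by ext i; simp [mul_add]
  map_smul' r x := by ext i; simp; ring
  invFun x i := (-1) ^ (i : ℕ) * x i
  left_inv x := by
    ext i
    show (-1) ^ (i : ℕ) * ((-1) ^ (i : ℕ) * x i) = x i
    rw [← mul_assoc, neg_pow_mul_self, one_mul]
  right_inv x := by
    ext i
    show (-1) ^ (i : ℕ) * ((-1) ^ (i : ℕ) * x i) = x i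
    rw [← mul_assoc, neg_pow_mul_self, one_mul]

theorem inv_apply (n : ℕ) (x : Fin (n + 1) → F) (i : Fin (n + 1)) : inv n x i = (-1) ^ (i : ℕ) * x i := rfl

theorem altForm_inv {n : ℕ} (hn : Even n) (x y : Fin (n + 1) → F) : altForm n (inv n x) (inv n y) = altForm n x y := by
  rw [altForm_apply, altForm_apply]
  refine Finset.sum_congr rfl fun i _ => ?_
  rw [inv_apply, inv_apply]
  have h : (-1 : F) ^ (i : ℕ) * (-1) ^ ((i.rev : Fin (n + 1)) : ℕ) = 1 := by
    rw [← pow_add]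
    have : (i : ℕ) + (i.rev : Fin (n + 1)) = n := by rw [Fin.val_rev]; omega
    rw [this, hn.neg_one_pow]
  linear_combination (-1 : F) ^ (i : ℕ) * x i * y i.rev * h

theorem inv_mem {n : ℕ} (hn : Even n) (c : F) : (inv n : (Fin (n + 1) → F) ≃ₗ[F] (Fin (n + 1) → F)) ∈ O (Jf n c) := by
  intro x
  show (c * 2⁻¹) • (altForm n (inv n x) (inv n x)) = (c * 2⁻¹) • (altForm n x x)
  rw [altForm_inv hn]

theorem inv_shift (n : ℕ) (x : Fin (n + 1) → F) : inv n (shift n x) = - shift n (inv n x) := by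
  ext i
  rw [inv_apply, Pi.neg_apply]
  refine Fin.cases ?_ (fun k => ?_) i
  · rw [shift_zero, shift_zero]; simp
  · rw [shift_succ, shift_succ, inv_apply, Fin.val_succ, Fin.val_castSucc, pow_succ]
    ring

theorem altForm_single (n : ℕ) (a b : Fin (n + 1)) :
    altForm n (Pi.single a (1 : F)) (Pi.single b 1) = (-1) ^ (a : ℕ) * (Pi.single b (1 : F) : Fin (n + 1) → F) a.rev := by
  rw [altForm_apply, Finset.sum_eq_single a]
  · rw [Pi.single_eq_same, mul_one]
  · intro i _ hi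
    rw [Pi.single_eq_of_ne hi, mul_zero, zero_mul]
  · intro h
    exact absurd (Finset.mem_univ _) h

theorem sp_single (m : ℕ) (j : Fin m) : sp m (Pi.single j (1 : F), 0) = Pi.single ⟨2 * j + 1, by omega⟩ 1 := by
  ext i
  by_cases h : (i : ℕ) % 2 = 1
  · rw [sp_odd _ _ _ h]
    show (Pi.single j (1 : F) : Fin m → F) _ = _
    by_cases hj : (i : ℕ) / 2 = j
    · have h1 : (⟨(i : ℕ) / 2, by omega⟩ : Fin m) = j := Fin.ext hj
      have h3 : i = ⟨2 * j + 1, by omega⟩ := Fin.ext (by show (i : ℕ) = 2 * j + 1; omega)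
      rw [h1, Pi.single_eq_same, h3, Pi.single_eq_same]
    · rw [Pi.single_eq_of_ne, Pi.single_eq_of_ne]
      · intro h3
        apply hj
        rw [h3]
        show (2 * (j : ℕ) + 1) / 2 = j
        omega
      · intro h1
        exact hj (congrArg Fin.val h1)
  · rw [sp_even _ _ _ h, Pi.single_eq_of_ne]
    · rfl
    · intro h3
      apply h
      rw [h3]
      show (2 * (j : ℕ) + 1) % 2 = 1
      omega

theorem polar_compL {V : Type v} {W : Type w} [AddCommGroup V] [Module F V] [AddCommGroup W] [Module F W]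
    (Q : QuadraticForm F W) (f : V →ₗ[F] W) (x y : V) : polar (Q.comp f) x y = polar Q (f x) (f y) := by
  simp only [QuadraticMap.polar, QuadraticMap.comp_apply, map_add]

theorem psi_inv (h2 : (2 : F) ≠ 0) (hm1 : quadraticChar F (-1) = -1) {e : ℕ} {c : F} (hc : c ≠ 0)
    (he : (-1) ^ e = - quadraticChar F 2 * quadraticChar F c) (m : ℕ) (hO : inv (2 * m) ∈ O (Jf (2 * m) c)) :
    psi e (Jf (2 * m) c) ⟨inv (2 * m), hO⟩ = ∏ j : Fin m, (-1) ^ ((j : ℕ) + 1) := by
  have hev : Even (2 * m) := even_two_mul m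
  have hA := adm_block (F := F) h2 hev hc
  set Q := Jf (2 * m) c with hQ
  set Q₁ : QuadraticForm F (Fin m → F) :=
    Q.comp ((sp (F := F) m).toLinearMap.comp (LinearMap.inl F (Fin m → F) (Fin (m + 1) → F))) with hQ₁
  set Q₂ : QuadraticForm F (Fin (m + 1) → F) :=
    Q.comp ((sp (F := F) m).toLinearMap.comp (LinearMap.inr F (Fin m → F) (Fin (m + 1) → F))) with hQ₂
  have hiso : IsIso (Q₁.prod Q₂) Q (sp m) := by
    rintro ⟨x, y⟩
    show Q (sp m (x, y)) = Q (sp m (x, 0)) + Q (sp m (0, y))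
    have h1 : sp m (x, y) = sp m (x, 0) + sp m (0, y) := by rw [← map_add]; simp
    rw [h1, Q_add]
    have h3 : polar Q (sp m (x, 0)) (sp m (0, y)) = 0 := by
      rw [hQ, polar_Jf h2 hev, altForm_apply, Finset.sum_eq_zero, mul_zero]
      intro i _
      by_cases h : (i : ℕ) % 2 = 1
      · have h4 : ((i.rev : Fin (2 * m + 1)) : ℕ) % 2 = 1 := by rw [Fin.val_rev]; omega
        rw [sp_odd _ _ _ h4]
        simp
      · rw [sp_even _ _ _ h]
        simp
    rw [h3, add_zero]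
  have hinv : cj (sp (F := F) m) (pr (LinearEquiv.neg F) (1 : (Fin (m + 1) → F) ≃ₗ[F] (Fin (m + 1) → F))) =
      inv (2 * m) := by
    symm
    ext1 w
    obtain ⟨⟨x, y⟩, rfl⟩ := (sp m).surjective w
    rw [cj_apply']
    ext i
    rw [inv_apply]
    by_cases h : (i : ℕ) % 2 = 1
    · rw [sp_odd _ _ _ h, sp_odd _ _ _ h]
      have hi : Odd (i : ℕ) := Nat.odd_iff.2 h
      rw [hi.neg_one_pow, neg_one_mul]
      rfl
    · rw [sp_even _ _ _ h, sp_even _ _ _ h]
      have hi : Even (i : ℕ) := Nat.even_iff.2 (by omega)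
      rw [hi.neg_one_pow, one_mul]
      rfl
  obtain ⟨hnd1, hnd2⟩ := nondeg_of_prod (hiso.symm.nondeg hA.nd)
  have hpsi : psi e Q ⟨inv (2 * m), hO⟩ = psi e Q₁ ⟨LinearEquiv.neg F, neg_mem_O Q₁⟩ := by
    have h1 := psi_pr e h2 hnd1 hnd2 (neg_mem_O Q₁) (O Q₂).one_mem
    have h3 : psi e Q₂ ⟨1, (O Q₂).one_mem⟩ = 1 := map_one (psi e Q₂)
    rw [h3, mul_one] at h1
    rw [← h1, ← psi_cj e hiso (pr_mem_O (neg_mem_O Q₁) (O Q₂).one_mem)]
    congr 1
    exact Subtype.ext hinv.symm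
  have hpol : ∀ i j : Fin m, polar Q₁ ((Pi.basisFun F (Fin m)) i) ((Pi.basisFun F (Fin m)) j) =
      if j = i.rev then -c else 0 := by
    intro i j
    rw [Pi.basisFun_apply, Pi.basisFun_apply]
    rw [hQ₁, polar_compL]
    show polar Q (sp m (Pi.single i 1, 0)) (sp m (Pi.single j 1, 0)) = _
    rw [hQ, polar_Jf h2 hev, sp_single, sp_single, altForm_single]
    have hi : Odd (2 * (i : ℕ) + 1) := odd_two_mul_add_one _
    show c * ((-1) ^ (2 * (i : ℕ) + 1) * _) = _
    rw [hi.neg_one_pow]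
    split_ifs with h
    · rw [h]
      have h3 : (⟨2 * (i : ℕ) + 1, by omega⟩ : Fin (2 * m + 1)).rev = ⟨2 * (i.rev : Fin m) + 1, by omega⟩ := by
        apply Fin.ext
        rw [Fin.val_rev]
        show 2 * m + 1 - (2 * (i : ℕ) + 1 + 1) = 2 * ((i.rev : Fin m) : ℕ) + 1
        rw [Fin.val_rev]
        omega
      rw [h3, Pi.single_eq_same]
      ring
    · rw [Pi.single_eq_of_ne]
      · ring
      · intro h3
        apply h
        have h4 := congrArg Fin.val h3
        rw [Fin.val_rev] at h4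
        apply Fin.ext
        rw [Fin.val_rev]
        change 2 * m + 1 - (2 * (i : ℕ) + 1 + 1) = 2 * (j : ℕ) + 1 at h4
        omega
  have hdc : dc Q₁ = quadraticChar F (∏ i : Fin m, ((-1) ^ (i : ℕ) * (-c))) := by
    rw [dc_anti (Pi.basisFun F (Fin m))]
    · simp only [hpol, if_true]
    · intro i j hij
      rw [hpol, if_neg]
      rintro rfl
      rw [Fin.val_rev] at hij
      omega
  have hx2 : quadraticChar F 2 ^ 2 = 1 := quadraticChar_sq_one h2
  have hxc : quadraticChar F c ^ 2 = 1 := quadraticChar_sq_one hc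
  have h5 : (- quadraticChar F 2) ^ m = ∏ _i : Fin m, (- quadraticChar F 2) := by
    rw [Finset.prod_const, Finset.card_univ, Fintype.card_fin]
  have h6 : ((-1 : ℤ) ^ m) ^ e = ∏ _i : Fin m, (- quadraticChar F 2 * quadraticChar F c) := by
    rw [Finset.prod_const, Finset.card_univ, Fintype.card_fin, ← he, ← pow_mul, ← pow_mul, mul_comm]
  rw [hpsi, psi_neg e h2 hnd1, hm1, finrank_fintype_fun_eq_card, Fintype.card_fin, hdc, map_prod, h5, h6,
    ← Finset.prod_mul_distrib, ← Finset.prod_mul_distrib]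
  refine Finset.prod_congr rfl fun i _ => ?_
  have h7 : quadraticChar F ((-1) ^ (i : ℕ) * (-c)) = (-1) ^ (i : ℕ) * (- quadraticChar F c) := by
    rw [map_mul, map_pow, hm1, ← neg_one_mul c, map_mul, hm1, neg_one_mul]
  rw [h7, pow_succ]
  linear_combination (-1 : ℤ) ^ (i : ℕ) * (- quadraticChar F c ^ 2 * hx2 - hxc)

/-- the sign -/
def sg (m : ℕ) : ℤ := ∏ j : Fin m, (-1) ^ ((j : ℕ) + 1)

theorem sg_succ (m : ℕ) : sg (m + 1) = sg m * (-1) ^ (m + 1) := by
  unfold sg
  rw [Fin.prod_univ_castSucc]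
  rfl

theorem sg_add_four (m : ℕ) : sg (m + 4) = sg m := by
  rw [sg_succ, sg_succ, sg_succ, sg_succ, mul_assoc, mul_assoc, mul_assoc, ← pow_add, ← pow_add, ← pow_add]
  have : Even (m + 1 + (m + 1 + 1 + (m + 2 + 1 + (m + 3 + 1)))) := ⟨2 * m + 5, by ring⟩
  rw [this.neg_one_pow, mul_one]

theorem sg_eq (m : ℕ) : sg m = if m % 4 = 1 ∨ m % 4 = 2 then -1 else 1 := by
  induction m using Nat.strong_induction_on with
  | _ m ih =>
    by_cases h : m < 4
    · interval_cases m <;> simp [sg, Fin.prod_univ_succ]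
    · obtain ⟨k, rfl⟩ : ∃ k, m = k + 4 := ⟨m - 4, by omega⟩
      rw [sg_add_four, ih k (by omega), Nat.add_mod_right]

end Cfsg.Agent.H864.SRN
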