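import Cfsg.Agent.H864.SRN.Cay
import Cfsg.Agent.FooteOrth.Rows

/-!
# TEAM SR, orthogonal groups, `q = 3 mod 4`: non-real elements

* `Data e d Q` : there is an element `G` of the kernel of determinant and spinor sign such that no such element
  conjugates `G` to `± G⁻¹`;
* `data_pair` : it exists for sums of two admissible spaces of different dimensions;
* `nrel_of_data` : then `POmega F Q` has a non-real element.
-/

set_option autoImplicit false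
set_option linter.unusedSectionVars false

namespace Cfsg.Agent.H864.SRN

open QuadraticMap Module
open Cfsg.Agent.LieClassical.OrthCore Cfsg.Agent.H160.QSpin Cfsg.Agent.H160.QDisc Cfsg.Agent.H160.QSplit

universe u v w

/-- existence of an element not conjugate to `± G⁻¹` -/
def NR {F : Type u} {V : Type v} [Field F] [AddCommGroup V] [Module F V] [Finite V] (Q : QuadraticForm F V) : Prop :=
  ∃ G : V ≃ₗ[F] V, El Q 1 G ∧ ∀ k : V ≃ₗ[F] V, El Q 1 k →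
    k * G * k⁻¹ ≠ G⁻¹ ∧ k * G * k⁻¹ ≠ LinearEquiv.neg F * G⁻¹

section

variable {F : Type u} {V : Type v} {W : Type w} [Field F] [AddCommGroup V] [Module F V] [AddCommGroup W] [Module F W]
  [Finite V] [Finite W]

theorem NR.iso {Q : QuadraticForm F V} {Q' : QuadraticForm F W} {f : V ≃ₗ[F] W} (hf : IsIso Q Q' f) (h : NR Q) :
    NR Q' := by
  obtain ⟨G, hG, h⟩ := h
  refine ⟨cj f G, hG.cj hf, fun k hk => ?_⟩
  obtain ⟨k, rfl⟩ := (cjEquiv f).surjective k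
  have hk' : El Q 1 k := by
    have h1 := hk.cj hf.symm
    have h3 : cj f.symm (cjEquiv f k) = k := (cjEquiv f).symm_apply_apply k
    rwa [h3] at h1
  obtain ⟨h1, h3⟩ := h k hk'
  have e1 : cj f G = cjEquiv f G := rfl
  have e2 : (LinearEquiv.neg F : W ≃ₗ[F] W) = cjEquiv f (LinearEquiv.neg F) := (cj_neg f).symm
  constructor
  · rw [e1, ← map_inv, ← map_mul, ← map_mul, ← map_inv]
    exact fun h => h1 ((cjEquiv f).injective h)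
  · rw [e1, e2, ← map_inv, ← map_mul, ← map_mul, ← map_inv, ← map_mul]
    exact fun h => h3 ((cjEquiv f).injective h)

end

section

variable {F : Type u} {V : Type v} {W : Type w} [Field F] [Fintype F] [DecidableEq F] [AddCommGroup V] [Module F V]
  [AddCommGroup W] [Module F W] [FiniteDimensional F V] [FiniteDimensional F W] [Finite V] [Finite W]

theorem nr_pair (h2 : (2 : F) ≠ 0) (hm1 : quadraticChar F (-1) = -1) {e : ℕ} {d : ℤ}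
    (he : (-1) ^ e = - quadraticChar F 2 * d) (hd : d = 1 ∨ d = -1) {S₁ S₂ : Set ℕ}
    {Q₁ : QuadraticForm F V} {Q₂ : QuadraticForm F W} {t₁ : Module.End F V} {t₂ : Module.End F W}
    (h₁ : Adm d S₁ Q₁ t₁) (h₂ : Adm d S₂ Q₂ t₂) (hne : finrank F V ≠ finrank F W) (hev : Even (finrank F W))
    (hdc : dc Q₂ = 1) {k₁ : V ≃ₗ[F] V} {k₂ : W ≃ₗ[F] W} (hk₁ : k₁ ∈ O Q₁) (hk₂ : k₂ ∈ O Q₂)
    (ht₁ : ∀ x, k₁ (t₁ x) = - t₁ (k₁ x)) (ht₂ : ∀ x, k₂ (t₂ x) = - t₂ (k₂ x))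
    (hpsi : psi e Q₁ ⟨k₁, hk₁⟩ * psi e Q₂ ⟨k₂, hk₂⟩ = -1) : NR (Q₁.prod Q₂) := by
  obtain ⟨g₁, hg₁⟩ := exists_cay h₁.nil
  obtain ⟨g₂, hg₂⟩ := exists_cay h₂.nil
  obtain ⟨M₁, hM₁, hp₁⟩ := hg₁.pow_one h2 h₁.nil
  obtain ⟨M₂, hM₂, hp₂⟩ := hg₂.pow_one h2 h₂.nil
  have hM : Odd (M₁ * M₂) := hM₁.mul hM₂
  have hq₁ : g₁ ^ (M₁ * M₂) = 1 := by rw [pow_mul, hp₁, one_pow]
  have hq₂ : g₂ ^ (M₁ * M₂) = 1 := by rw [mul_comm, pow_mul, hp₂, one_pow]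
  have hO₁ := hg₁.mem h2 h₁.nil h₁.skew
  have hO₂ := hg₂.mem h2 h₂.nil h₂.skew
  have hodd₁ : Odd (orderOf g₁) := Odd.of_dvd_nat hM (orderOf_dvd_of_pow_eq_one hq₁)
  have hodd₂ : Odd (orderOf g₂) := Odd.of_dvd_nat hM (orderOf_dvd_of_pow_eq_one hq₂)
  have hE₁ := El.of_odd h₁.nd hO₁ hodd₁
  have hE₂ : El Q₂ 1 (LinearEquiv.neg F * g₂) := by
    have h3 := (el_neg h2 h₂.nd hev (s := 1) (by rw [hdc]; rfl)).mul (El.of_odd h₂.nd hO₂ hodd₂)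
    rwa [mul_one] at h3
  have hGel : El (Q₁.prod Q₂) 1 (pr g₁ (LinearEquiv.neg F * g₂)) := by
    have h3 := El.pr h2 h₁.nd h₂.nd hE₁ hE₂
    rwa [mul_one] at h3
  set G : (V × W) ≃ₗ[F] (V × W) := pr g₁ (LinearEquiv.neg F * g₂) with hG
  have hGz : G ^ (M₁ * M₂) = zz := pair_pow hM hq₁ hq₂
  have hzz : (zz : (V × W) ≃ₗ[F] (V × W))⁻¹ = zz := by
    rw [inv_eq_iff_mul_eq_one]
    ext1 v
    show ((v.1, - - v.2) : V × W) = v
    rw [neg_neg]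
  refine ⟨G, hGel, fun k hk => ⟨fun h => ?_, fun h => ?_⟩⟩
  · -- `k G k⁻¹ = G⁻¹`
    set k₀ : (V × W) ≃ₗ[F] (V × W) := pr k₁ k₂ with hk₀
    have hk₀O : k₀ ∈ O (Q₁.prod Q₂) := pr_mem_O hk₁ hk₂
    have h3 : k₀ * G * k₀⁻¹ = G⁻¹ := by
      have e1 := hg₁.inv h₁.nil ht₁
      have e2 := hg₂.inv h₂.nil ht₂
      have e3 : k₂ * (LinearEquiv.neg F * g₂) * k₂⁻¹ = (LinearEquiv.neg F * g₂)⁻¹ := by
        rw [mul_inv_rev, ← e2]
        have hn : (LinearEquiv.neg F : W ≃ₗ[F] W)⁻¹ = LinearEquiv.neg F := by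
          rw [inv_eq_iff_mul_eq_one, ← pow_two]
          exact Cfsg.Agent.H160.QUpper.neg_pow_two
        rw [hn, ← (Cfsg.Agent.H160.QUpper.neg_comm (k₂ * g₂ * k₂⁻¹)).eq]
        have hcm := (Cfsg.Agent.H160.QUpper.neg_comm k₂).eq
        calc k₂ * (LinearEquiv.neg F * g₂) * k₂⁻¹ = (k₂ * LinearEquiv.neg F) * g₂ * k₂⁻¹ := by group
          _ = (LinearEquiv.neg F * k₂) * g₂ * k₂⁻¹ := by rw [hcm]
          _ = _ := by group
      have e4 : k₀⁻¹ = pr k₁⁻¹ k₂⁻¹ := rfl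
      have e5 : G⁻¹ = pr g₁⁻¹ (LinearEquiv.neg F * g₂)⁻¹ := rfl
      rw [e4, e5, hk₀, hG, ← pr_mul, ← pr_mul, e1, e3]
    -- `c = k₀⁻¹ k` commutes with `G`
    obtain ⟨hkO, hk1, hk3⟩ := hk
    have hcG : (k₀⁻¹ * k) * G = G * (k₀⁻¹ * k) := by
      have e1 : k * G = G⁻¹ * k := by rw [← h]; group
      have e2 : k₀⁻¹ * G⁻¹ = G * k₀⁻¹ := by
        have e3 : G⁻¹ = k₀ * G * k₀⁻¹ := h3.symm
        rw [e3]; group
      calc (k₀⁻¹ * k) * G = k₀⁻¹ * (k * G) := by group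
        _ = (k₀⁻¹ * G⁻¹) * k := by rw [e1]; group
        _ = G * (k₀⁻¹ * k) := by rw [e2]; group
    have hcz : (k₀⁻¹ * k) * zz = zz * (k₀⁻¹ * k) := by
      rw [← hGz]
      have h5 : Commute (k₀⁻¹ * k) G := hcG
      exact (h5.pow_right _).eq
    obtain ⟨c₁, c₂, hc⟩ := exists_pr_of_comm h2 hcz
    have hcO : k₀⁻¹ * k ∈ O (Q₁.prod Q₂) := (O _).mul_mem ((O _).inv_mem hk₀O) hkO
    have hcO' := hcO
    rw [hc, pr_mem_O_iff] at hcO'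
    obtain ⟨hc₁, hc₂⟩ := hcO'
    rw [hc, hG, ← pr_mul, ← pr_mul] at hcG
    have hcomm₁ : ∀ x, c₁ (g₁ x) = g₁ (c₁ x) := fun x => congrArg Prod.fst (LinearEquiv.congr_fun hcG (x, 0))
    have hcomm₂ : ∀ x, c₂ (g₂ x) = g₂ (c₂ x) := by
      intro x
      have e1 : c₂ (-(g₂ x)) = -(g₂ (c₂ x)) := congrArg Prod.snd (LinearEquiv.congr_fun hcG (0, x))
      rw [map_neg, neg_inj] at e1
      exact e1
    have p₁ := psi_comm h2 hm1 he hd h₁ hc₁ (hg₁.comm h2 h₁.nil hcomm₁)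
    have p₂ := psi_comm h2 hm1 he hd h₂ hc₂ (hg₂.comm h2 h₂.nil hcomm₂)
    have pc : psi e (Q₁.prod Q₂) ⟨k₀⁻¹ * k, hcO⟩ = 1 := by
      have e1 : (⟨k₀⁻¹ * k, hcO⟩ : O (Q₁.prod Q₂)) = ⟨pr c₁ c₂, pr_mem_O hc₁ hc₂⟩ := Subtype.ext hc
      rw [e1, psi_pr e h2 h₁.nd h₂.nd hc₁ hc₂, p₁, p₂, one_mul]
    have pk₀ : psi e (Q₁.prod Q₂) ⟨k₀, hk₀O⟩ = -1 := by
      rw [← hpsi]
      exact psi_pr e h2 h₁.nd h₂.nd hk₁ hk₂
    have pk : psi e (Q₁.prod Q₂) ⟨k, hkO⟩ = 1 := psi_of_el e (s := 1) ⟨hkO, hk1, hk3⟩ hkO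
    have e1 : (⟨k, hkO⟩ : O (Q₁.prod Q₂)) = ⟨k₀, hk₀O⟩ * ⟨k₀⁻¹ * k, hcO⟩ := by
      apply Subtype.ext
      show k = k₀ * (k₀⁻¹ * k)
      group
    rw [e1, map_mul, pc, pk₀] at pk
    norm_num at pk
  · -- `k G k⁻¹ = -G⁻¹`
    apply hne
    apply finrank_eq_of_anti h2 (k := k)
    have h3 : k * zz * k⁻¹ = (LinearEquiv.neg F : (V × W) ≃ₗ[F] (V × W)) * zz := by
      rw [← hGz, ← conj_pow, h, (Cfsg.Agent.H160.QUpper.neg_comm G⁻¹).mul_pow, inv_pow, hGz, hzz]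
      congr 1
      obtain ⟨j, hj⟩ := hM
      rw [hj, pow_succ, pow_mul, Cfsg.Agent.H160.QUpper.neg_pow_two, one_pow, one_mul]
    rw [mul_inv_eq_iff_eq_mul, mul_assoc] at h3
    exact h3

end

/-! ### `POmega` -/

section

open Cfsg.Agent.LieClassical.OrthTrans
open Cfsg.Agent.TitsThree.KSideO (toPOmega toPOmega_surjective)

variable {ι : Type} [Fintype ι] [DecidableEq ι] {F : Type u} [Field F] [Finite F] {Q : QuadraticForm F (ι → F)}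

theorem nrel_of_nr (h2 : (2 : F) ≠ 0) (hG : Good Q) (h : NR Q) : Cfsg.Agent.H721.SR.NRel (Cfsg.POmega F ⇑Q) := by
  have hE : ∀ k : (ι → F) ≃ₗ[F] (ι → F), k ∈ E Q ↔ El Q 1 k := by
    intro k
    constructor
    · intro hk
      have hO := E_le_O hk
      obtain ⟨h1, h3⟩ := (Cfsg.Agent.FooteOrth.mem_E_iff hG h2 hO).1 hk
      exact ⟨hO, h1, by rw [spin_eq_sg, h3]⟩
    · rintro ⟨hO, h1, h3⟩
      exact (Cfsg.Agent.FooteOrth.mem_E_iff hG h2 hO).2 ⟨h1, by rw [← spin_eq_sg, h3]⟩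
  obtain ⟨G, hGel, h⟩ := h
  refine ⟨toPOmega hG ⟨G, (hE G).2 hGel⟩, fun hc => ?_⟩
  obtain ⟨y, hy⟩ := isConj_iff.1 hc
  obtain ⟨k, rfl⟩ := toPOmega_surjective hG y
  have h1 : toPOmega hG (k * ⟨G, (hE G).2 hGel⟩ * k⁻¹ * ⟨G, (hE G).2 hGel⟩) = 1 := by
    rw [map_mul, map_mul, map_mul, map_inv, hy, inv_mul_cancel]
  obtain ⟨c, hc, hcv⟩ := Cfsg.Agent.FooteOrth.toPOmega_ker hG _ h1
  obtain ⟨h3, h4⟩ := h k ((hE _).1 k.2)
  rcases hc with rfl | rfl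
  · apply h3
    rw [eq_inv_iff_mul_eq_one]
    ext1 v
    have := hcv v
    rw [one_smul] at this
    exact this
  · apply h4
    rw [eq_mul_inv_iff_mul_eq]
    ext1 v
    have := hcv v
    rw [neg_one_smul] at this
    exact this

end

end Cfsg.Agent.H864.SRN
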