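import Cfsg.Agent.H721.SR.Orth
import Cfsg.Agent.H160.QSplit

/-!
# TEAM SR, orthogonal groups, `q = 3 mod 4`: the twisted spinor sign

`psi e Q h = spin h * χ(det h) ^ e`; Gram determinants of anti-triangular families.
-/

set_option autoImplicit false
set_option linter.unusedSectionVars false

namespace Cfsg.Agent.H864.SRN

open QuadraticMap Module
open Cfsg.Agent.LieClassical.OrthCore Cfsg.Agent.H160.QSpin Cfsg.Agent.H160.QDisc

universe u v w

variable {F : Type u} {V : Type v} {W : Type w} [Field F] [Fintype F] [DecidableEq F] [AddCommGroup V] [Module F V]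
  [AddCommGroup W] [Module F W]

/-- the twisted spinor sign -/
noncomputable def psi [Finite V] (e : ℕ) (Q : QuadraticForm F V) : O Q →* ℤ where
  toFun h := ((spin Q h : ℤˣ) : ℤ) * quadraticChar F ((LinearEquiv.det (h : V ≃ₗ[F] V) : Fˣ) : F) ^ e
  map_one' := by simp
  map_mul' x y := by
    simp only [map_mul, Subgroup.coe_mul, Units.val_mul, mul_pow]
    ring

theorem psi_apply [Finite V] (e : ℕ) (Q : QuadraticForm F V) (h : O Q) :
    psi e Q h = ((spin Q h : ℤˣ) : ℤ) * quadraticChar F ((LinearEquiv.det (h : V ≃ₗ[F] V) : Fˣ) : F) ^ e := rfl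

theorem psi_cases [Finite V] (e : ℕ) (Q : QuadraticForm F V) (h : O Q) : psi e Q h = 1 ∨ psi e Q h = -1 := by
  have h1 : psi e Q h * psi e Q h = 1 := by
    rw [psi_apply]
    have h2 : ((spin Q h : ℤˣ) : ℤ) * ((spin Q h : ℤˣ) : ℤ) = 1 := by
      rw [← Units.val_mul, units_sq, Units.val_one]
    have h3 : quadraticChar F ((LinearEquiv.det (h : V ≃ₗ[F] V) : Fˣ) : F) ^ 2 = 1 :=
      quadraticChar_sq_one (Units.ne_zero _)
    calc _ = (((spin Q h : ℤˣ) : ℤ) * ((spin Q h : ℤˣ) : ℤ)) *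
          (quadraticChar F ((LinearEquiv.det (h : V ≃ₗ[F] V) : Fˣ) : F) ^ 2) ^ e := by ring
      _ = 1 := by rw [h2, h3, one_pow, one_mul]
  exact mul_self_eq_one_iff.1 h1

theorem psi_pow_odd [Finite V] (e : ℕ) (Q : QuadraticForm F V) (h : O Q) {m : ℕ} (hm : Odd m) :
    psi e Q (h ^ m) = psi e Q h := by
  rw [map_pow]
  rcases psi_cases e Q h with h1 | h1
  · rw [h1, one_pow]
  · rw [h1, hm.neg_one_pow]

theorem psi_cj [Finite V] [Finite W] (e : ℕ) {Q : QuadraticForm F V} {Q' : QuadraticForm F W} {f : V ≃ₗ[F] W}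
    (hf : IsIso Q Q' f) {g : V ≃ₗ[F] V} (hg : g ∈ O Q) :
    psi e Q' ⟨cj f g, cj_mem_O hf hg⟩ = psi e Q ⟨g, hg⟩ := by
  rw [psi_apply, psi_apply, spin_cj hf hg]
  simp only [det_cj]

theorem psi_pr [Finite V] [Finite W] [Finite (V × W)] [FiniteDimensional F V] [FiniteDimensional F W] (e : ℕ)
    (h2 : (2 : F) ≠ 0) {Q₁ : QuadraticForm F V} {Q₂ : QuadraticForm F W} (h₁ : Nondeg Q₁) (h₂ : Nondeg Q₂)
    {g : V ≃ₗ[F] V} (hg : g ∈ O Q₁) {h : W ≃ₗ[F] W} (hh : h ∈ O Q₂) :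
    psi e (Q₁.prod Q₂) ⟨pr g h, pr_mem_O hg hh⟩ = psi e Q₁ ⟨g, hg⟩ * psi e Q₂ ⟨h, hh⟩ := by
  rw [psi_apply, psi_apply, psi_apply, spin_pr h2 h₁ h₂ hg hh]
  simp only [det_pr, Units.val_mul, map_mul, mul_pow]
  ring

theorem psi_of_el [Finite V] (e : ℕ) {Q : QuadraticForm F V} {s : ℤˣ} {g : V ≃ₗ[F] V} (h : El Q s g) (hg : g ∈ O Q) :
    psi e Q ⟨g, hg⟩ = s := by
  obtain ⟨h1, h2, h3⟩ := h
  rw [psi_apply, h3, h2]
  simp

theorem det_neg_eq [FiniteDimensional F V] :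
    ((LinearEquiv.det (LinearEquiv.neg F : V ≃ₗ[F] V) : Fˣ) : F) = (-1) ^ finrank F V := by
  rw [LinearEquiv.coe_det]
  have h : ((LinearEquiv.neg F : V ≃ₗ[F] V) : V →ₗ[F] V) = (-1 : F) • LinearMap.id := by
    ext x
    simp
  rw [h, LinearMap.det_smul, LinearMap.det_id, mul_one]

theorem spin_neg [FiniteDimensional F V] [Finite V] (h2 : (2 : F) ≠ 0) {Q : QuadraticForm F V} (hQ : Nondeg Q) :
    ((spin Q ⟨LinearEquiv.neg F, neg_mem_O Q⟩ : ℤˣ) : ℤ) = (- quadraticChar F 2) ^ finrank F V * dc Q := by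
  obtain ⟨Q', e, hee⟩ := exists_iso_fin Q
  have h3 := spin_cj hee (neg_mem_O _)
  have h4 : (⟨cj e (LinearEquiv.neg F), cj_mem_O hee (neg_mem_O _)⟩ : O Q') = ⟨LinearEquiv.neg F, neg_mem_O Q'⟩ :=
    Subtype.ext (cj_neg e)
  rw [h4] at h3
  rw [← h3, spin_neg_one_aux h2 _ Q' (hee.nondeg hQ), dc_iso hee]

theorem psi_neg [FiniteDimensional F V] [Finite V] (e : ℕ) (h2 : (2 : F) ≠ 0) {Q : QuadraticForm F V}
    (hQ : Nondeg Q) : psi e Q ⟨LinearEquiv.neg F, neg_mem_O Q⟩ =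
      (- quadraticChar F 2) ^ finrank F V * dc Q * (quadraticChar F (-1) ^ finrank F V) ^ e := by
  rw [psi_apply, spin_neg h2 hQ, det_neg_eq, map_pow]

/-! ### Gram determinants -/

theorem sign_rev (n : ℕ) : ((Equiv.Perm.sign (Fin.revPerm : Equiv.Perm (Fin n)) : ℤˣ) : ℤ) =
    ∏ i : Fin n, (-1) ^ (i : ℕ) := by
  have h0 : ∏ i : Fin n, (-1 : ℤ) ^ (i : ℕ) = ∏ i : Fin n, (-1 : ℤ) ^ ((Fin.revPerm i : Fin n) : ℕ) :=
    (Equiv.prod_comp Fin.revPerm (fun i : Fin n => (-1 : ℤ) ^ (i : ℕ))).symm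
  rw [h0, Equiv.Perm.sign_eq_prod_prod_Ioi, Units.coe_prod]
  refine Finset.prod_congr rfl fun i _ => ?_
  rw [Units.coe_prod, Finset.prod_congr rfl (g := fun _ => (-1 : ℤ))]
  · rw [Finset.prod_const, Fin.card_Ioi, Fin.revPerm_apply, Fin.val_rev]
    congr 1
    omega
  · intro j hj
    rw [Finset.mem_Ioi] at hj
    rw [if_neg]
    · rfl
    · rw [Fin.revPerm_apply, Fin.revPerm_apply, Fin.rev_lt_rev]
      exact not_lt.2 hj.le

/-- determinants of anti-triangular matrices -/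
theorem det_anti {n : ℕ} (G : Matrix (Fin n) (Fin n) F) (h : ∀ i j : Fin n, n ≤ (i : ℕ) + j → G i j = 0) :
    G.det = ∏ i : Fin n, ((-1) ^ (i : ℕ) * G i i.rev) := by
  have h1 : (G.submatrix id Fin.revPerm).det = ∏ i : Fin n, G i i.rev := by
    rw [Matrix.det_of_isUpperTriangular]
    · rfl
    · intro i j hij
      show G i (Fin.revPerm j) = 0
      apply h
      have hij' : (j : ℕ) < i := hij
      rw [Fin.revPerm_apply, Fin.val_rev]
      omega
  have h2 := Matrix.det_permute' (Fin.revPerm : Equiv.Perm (Fin n)) G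
  rw [h1] at h2
  have h3 : (((Equiv.Perm.sign (Fin.revPerm : Equiv.Perm (Fin n)) : ℤˣ) : ℤ) : F) = ∏ i : Fin n, (-1) ^ (i : ℕ) := by
    rw [sign_rev]
    push_cast
    rfl
  have h4 : (∏ i : Fin n, (-1 : F) ^ (i : ℕ)) * ∏ i : Fin n, (-1 : F) ^ (i : ℕ) = 1 := by
    rw [← Finset.prod_mul_distrib]
    refine Finset.prod_eq_one fun i _ => ?_
    rw [← mul_pow]
    simp
  rw [Finset.prod_mul_distrib, h2, h3, ← mul_assoc, h4, one_mul]

/-- the class of an anti-triangular form -/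
theorem dc_anti [FiniteDimensional F V] {n : ℕ} (b : Basis (Fin n) F V) (Q : QuadraticForm F V)
    (h : ∀ i j : Fin n, n ≤ (i : ℕ) + j → polar Q (b i) (b j) = 0) :
    dc Q = quadraticChar F (∏ i : Fin n, ((-1) ^ (i : ℕ) * polar Q (b i) (b i.rev))) := by
  have hG : ∀ i j, LinearMap.BilinForm.toMatrix b (polarBilin Q) i j = polar Q (b i) (b j) := fun i j =>
    LinearMap.BilinForm.toMatrix_apply _ _ _ _
  rw [dc_eq b Q, det_anti _ (fun i j hij => (hG i j).trans (h i j hij))]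
  simp only [hG]

end Cfsg.Agent.H864.SRN
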